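import Cfsg.Agent.Lib.M12Recog.Facts
import Cfsg.Agent.Lib.Invol.GlaubermanZStar
import Cfsg.Agent.Lib.Fusion.ThompsonTransfer
import Cfsg.Agent.Lib.Invol.Counting

/-!
A simple group with the involution centraliser of M12: the fusion of involutions.
-/

set_option autoImplicit false

namespace CfsgLib.M12Recog

open Subgroup

variable {G : Type*} [Group G]

/-- An involution centraliser given by the model. -/
structure CentData (G : Type*) [Group G] where
  /-- the embedding of the model -/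
  hom : CM →* G
  inj : Function.Injective hom
  range_eq : hom.range = Subgroup.centralizer ({hom mz} : Set G)

variable (D : CentData G)

/-- The central involution. -/
noncomputable def CentData.z : G := D.hom mz

theorem CentData.mem_range_iff {g : G} : g ∈ D.hom.range ↔ g * D.z = D.z * g := by
  rw [D.range_eq, Subgroup.mem_centralizer_singleton_iff]; rfl

theorem CentData.exists_of_comm {g : G} (h : g * D.z = D.z * g) : ∃ x : CM, D.hom x = g :=
  D.mem_range_iff.2 h

theorem CentData.comm_z (x : CM) : D.hom x * D.z = D.z * D.hom x := by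
  rw [CentData.z, ← map_mul, ← map_mul, mz_central]

theorem CentData.orderOf_invol {x : CM} (h : lab x ≠ 0) : orderOf (D.hom x) = 2 := by
  rw [orderOf_injective D.hom D.inj]
  have h' : x * x = 1 ∧ x ≠ 1 := by
    by_contra hn; exact h ((lab_eq_zero_iff x).2 hn)
  exact orderOf_eq_prime (by rw [pow_two]; exact h'.1) h'.2

theorem CentData.isConj_crep {x : CM} (h : lab x ≠ 0) : IsConj (D.hom (crep (lab x))) (D.hom x) :=
  isConj_iff.2 ⟨D.hom (cjr x), by rw [← map_inv, ← map_mul, ← map_mul, conj_crep x h]⟩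

theorem CentData.orderOf_z : orderOf D.z = 2 := D.orderOf_invol (by rw [lab_facts.1]; norm_num)

theorem lab_ne_zero_of_orderOf {x : CM} (h : orderOf x = 2) : lab x ≠ 0 := by
  intro h0
  refine (lab_eq_zero_iff x).1 h0 ⟨?_, ?_⟩
  · have := pow_orderOf_eq_one x
    rwa [h, pow_two] at this
  · rintro rfl
    rw [orderOf_one] at h
    omega

theorem CentData.lab_ne_zero {x : CM} (h : orderOf (D.hom x) = 2) : lab x ≠ 0 :=
  lab_ne_zero_of_orderOf (by rwa [orderOf_injective D.hom D.inj] at h)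

/-- The order of the centraliser of an involution within the model. -/
theorem card_cent {x : CM} (h : lab x ≠ 0) :
    Nat.card {y : CM // y * x = x * y} = [0, 192, 32, 16, 8].getD (lab x) 0 := by
  rw [← card_cent_filter x h, Nat.card_eq_fintype_card, Fintype.card_subtype]

/-- The elements commuting with both `z` and `D.hom x`. -/
theorem CentData.card_cent_pair {x : CM} (h : lab x ≠ 0) :
    Nat.card {g : G // g * D.z = D.z * g ∧ g * D.hom x = D.hom x * g} = [0, 192, 32, 16, 8].getD (lab x) 0 := by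
  rw [← card_cent h]
  symm
  refine Nat.card_eq_of_bijective (fun y => ⟨D.hom y, D.comm_z y, by rw [← map_mul, ← map_mul, y.2]⟩) ⟨?_, ?_⟩
  · intro y y' e
    exact Subtype.ext (D.inj (congrArg Subtype.val e))
  · rintro ⟨g, hg, hgx⟩
    obtain ⟨y, rfl⟩ := D.exists_of_comm hg
    exact ⟨⟨y, D.inj (by rw [map_mul, map_mul, hgx])⟩, rfl⟩

theorem card_pair_conj {G : Type*} [Group G] (g u v : G) :
    Nat.card {h : G // h * (g * u * g⁻¹) = g * u * g⁻¹ * h ∧ h * (g * v * g⁻¹) = g * v * g⁻¹ * h} =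
      Nat.card {h : G // h * u = u * h ∧ h * v = v * h} := by
  refine (Nat.card_congr ((MulAut.conj g).toEquiv.subtypeEquiv fun h => ?_)).symm
  have hc : ∀ w : G, (g * h * g⁻¹ * (g * w * g⁻¹) = g * w * g⁻¹ * (g * h * g⁻¹)) ↔ h * w = w * h :=
    fun w => by rw [show g * h * g⁻¹ * (g * w * g⁻¹) = g * (h * w) * g⁻¹ by group,
      show g * w * g⁻¹ * (g * h * g⁻¹) = g * (w * h) * g⁻¹ by group, mul_left_inj, mul_right_inj]
  exact and_congr (hc u).symm (hc v).symm

/-- A 2-subgroup is a Sylow subgroup of `X` if its normaliser in `X` centralises `z` and it is large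
enough in the centraliser. -/
theorem CentData.eq_of_normalizer_fix [Finite G] {H X P : Subgroup G} (hP : IsPGroup 2 ↥P) (hHP : H ≤ P)
    (hPX : P ≤ X) (hfix : ∀ g ∈ X, (∀ h ∈ H, g * h * g⁻¹ ∈ H) → g * D.z = D.z * g)
    (hmax : ∀ K : Subgroup G, IsPGroup 2 ↥K → K ≤ X → K ≤ D.hom.range → H ≤ K → K ≤ H) : P = H := by
  have : Fact (Nat.Prime 2) := ⟨Nat.prime_two⟩
  by_contra hne
  have hlt : H < P := lt_of_le_of_ne hHP (fun e => hne e.symm)
  have hnil := hP.isNilpotent
  have hsub : H.subgroupOf P < ⊤ := by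
    rw [lt_top_iff_ne_top, Ne, Subgroup.subgroupOf_eq_top]
    exact fun h => hne (le_antisymm h hHP)
  obtain ⟨⟨g, hgP⟩, hgN, hgH⟩ :=
    SetLike.exists_of_lt (Group.normalizerCondition_of_isNilpotent (H.subgroupOf P) hsub)
  have hgn : ∀ h ∈ H, g * h * g⁻¹ ∈ H := fun h hh =>
    Subgroup.mem_subgroupOf.1 ((Subgroup.mem_normalizer_iff.1 hgN ⟨h, hHP hh⟩).1 (Subgroup.mem_subgroupOf.2 hh))
  have hfixH : ∀ x ∈ H, x * D.z = D.z * x := fun x hx =>
    hfix x (hPX (hHP hx)) fun h hh => H.mul_mem (H.mul_mem hx hh) (H.inv_mem hx)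
  have hK : H ⊔ Subgroup.zpowers g ≤ P := sup_le hHP (Subgroup.zpowers_le.2 hgP)
  have hle := hmax _ (hP.to_le hK) (hK.trans hPX)
    (sup_le (fun x hx => D.mem_range_iff.2 (hfixH x hx))
      (Subgroup.zpowers_le.2 (D.mem_range_iff.2 (hfix g (hPX hgP) hgn)))) le_sup_left
  exact hgH (Subgroup.mem_subgroupOf.2 (hle (Subgroup.mem_sup_right (Subgroup.mem_zpowers g))))

/-- The Sylow 2-subgroup of the model. -/
noncomputable def mS : Subgroup CM where
  carrier := {x | inS x = true}
  mul_mem' := inS_mul _ _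
  one_mem' := inS_facts.1
  inv_mem' := inS_facts.2.2.2.2 _

/-- The normal 2-subgroup of the model. -/
noncomputable def mQ : Subgroup CM where
  carrier := {x | inQ x = true}
  mul_mem' := inQ_mul _ _
  one_mem' := inQ_facts.1
  inv_mem' := fun h => (inQ_facts.2.1 _ h).2.1

theorem card_mS : Nat.card mS = 64 := by
  rw [← card_inS]
  exact (Nat.card_congr (Equiv.subtypeEquivRight fun x => (by exact Iff.rfl : x ∈ mS ↔ inS x = true))).trans
    ((Nat.card_eq_fintype_card).trans (Fintype.card_subtype _))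

theorem card_mQ : Nat.card mQ = 32 := by
  rw [← inQ_facts.2.2.2]
  exact (Nat.card_congr (Equiv.subtypeEquivRight fun x => (by exact Iff.rfl : x ∈ mQ ↔ inQ x = true))).trans
    ((Nat.card_eq_fintype_card).trans (Fintype.card_subtype _))

theorem CentData.card_map (H : Subgroup CM) : Nat.card ↥(H.map D.hom) = Nat.card H :=
  Subgroup.card_map_of_injective D.inj

theorem CentData.isPGroup_map_S : IsPGroup 2 ↥(mS.map D.hom) :=
  IsPGroup.of_card (n := 6) (by rw [D.card_map, card_mS]; norm_num)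

theorem CentData.S_maximal [Finite G] {P : Subgroup G} (hP : IsPGroup 2 ↥P) (hle : mS.map D.hom ≤ P) :
    P = mS.map D.hom := by
  have : Fact (Nat.Prime 2) := ⟨Nat.prime_two⟩
  refine D.eq_of_normalizer_fix hP hle le_top (fun g _ hg => ?_) (fun K hK _ hKr hSK => ?_)
  · obtain ⟨s, hs, he⟩ := hg (D.hom mz) ⟨mz, inS_facts.2.1, rfl⟩
    have hcen : ∀ y : CM, inS y = true → s * y = y * s := fun y hy => by
      obtain ⟨t, ht, hte⟩ := hg (D.hom y) ⟨y, hy, rfl⟩
      have key : ∀ y' ∈ mS, D.hom s * D.hom y' = D.hom y' * D.hom s := by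
        intro y' hy'
        have hfin : Function.Surjective (fun w : ↥(mS.map D.hom) =>
            (⟨g * w * g⁻¹, hg w w.2⟩ : ↥(mS.map D.hom))) :=
          Finite.surjective_of_injective fun w w' e => Subtype.ext (by
            simpa using congrArg Subtype.val e)
        obtain ⟨⟨_, w, hw, rfl⟩, hwe⟩ := hfin ⟨D.hom y', y', hy', rfl⟩
        have hwe' : g * D.hom w * g⁻¹ = D.hom y' := congrArg Subtype.val hwe
        rw [← hwe', show D.hom s = g * D.hom mz * g⁻¹ from he]
        calc g * D.hom mz * g⁻¹ * (g * D.hom w * g⁻¹) = g * D.hom (mz * w) * g⁻¹ := by rw [map_mul]; group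
          _ = g * D.hom w * g⁻¹ * (g * D.hom mz * g⁻¹) := by rw [← mz_central w, map_mul]; group
      exact D.inj (by rw [map_mul, map_mul, key y hy])
    rcases center_inS s hs hcen with rfl | rfl
    · rw [map_one, eq_comm, conj_eq_one_iff] at he
      exact absurd he (CfsgLib.Invol.ne_one_of_invol D.orderOf_z)
    · exact mul_inv_eq_iff_eq_mul.1 he.symm
  · obtain ⟨n, hn⟩ := hK.exists_card_eq
    have hd : Nat.card K ∣ 192 := by
      rw [← CM.card, Nat.card_congr (MonoidHom.ofInjective D.inj).toEquiv]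
      exact Subgroup.card_dvd_of_le hKr
    have hn6 : n ≤ 6 := by
      by_contra hlt
      have h128 : 2 ^ 7 ∣ 192 := (pow_dvd_pow 2 (by omega : 7 ≤ n)).trans (hn ▸ hd)
      omega
    refine (Subgroup.eq_of_le_of_card_ge hSK ?_).ge
    rw [hn, D.card_map, card_mS]
    exact Nat.pow_le_pow_right (by norm_num) hn6 |>.trans (by norm_num)

/-- The Sylow 2-subgroup of `G`. -/
noncomputable def CentData.sylow [Finite G] : Sylow 2 G :=
  ⟨mS.map D.hom, D.isPGroup_map_S, fun hQ hle => D.S_maximal hQ hle⟩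

theorem CentData.sylow_coe [Finite G] : (D.sylow : Subgroup G) = mS.map D.hom := rfl

theorem CentData.exists_conj_mem [Finite G] {t : G} (ht : orderOf t = 2) :
    ∃ (g : G) (x : CM), inS x = true ∧ g * t * g⁻¹ = D.hom x := by
  have : Fact (Nat.Prime 2) := ⟨Nat.prime_two⟩
  obtain ⟨Q, hQ⟩ := (IsPGroup.of_card (G := Subgroup.zpowers t) (p := 2) (n := 1)
    (by rw [Nat.card_zpowers, ht, pow_one])).exists_le_sylow
  obtain ⟨g, hg⟩ := MulAction.exists_smul_eq G Q D.sylow
  have hmem : g * t * g⁻¹ ∈ (D.sylow : Subgroup G) := by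
    rw [← hg]
    exact (Subgroup.smul_mem_pointwise_smul_iff (a := MulAut.conj g) (x := t)
      (S := (Q : Subgroup G))).2 (hQ (Subgroup.mem_zpowers _))
  obtain ⟨x, hx, hxe⟩ := hmem
  exact ⟨g, x, hx, hxe.symm⟩

/-- The subgroup of the model centralising `ma`. -/
noncomputable def mT : Subgroup CM := Subgroup.centralizer ({ma} : Set CM)

theorem mem_mT {x : CM} : x ∈ mT ↔ x * ma = ma * x := Subgroup.mem_centralizer_singleton_iff

theorem card_mT : Nat.card mT = 16 := by
  have h := card_cent (x := ma) (by rw [lab_facts.2.2.2.2.1]; norm_num)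
  rw [lab_facts.2.2.2.2.1] at h
  refine (Nat.card_congr (Equiv.subtypeEquivRight fun x => mem_mT)).trans h

/-- The 2-subgroup `T` is Sylow in the centraliser of the involution of class 3. -/
theorem CentData.T_maximal [Finite G] {P : Subgroup G} (hP : IsPGroup 2 ↥P) (hle : mT.map D.hom ≤ P)
    (hPX : P ≤ Subgroup.centralizer ({D.hom ma} : Set G)) : P = mT.map D.hom := by
  refine D.eq_of_normalizer_fix hP hle hPX (fun g _ hg => ?_) (fun K _ hKX hKr _ => ?_)
  · obtain ⟨s, hs, hse⟩ := hg (D.hom mq) ⟨mq, mem_mT.2 cent_a_comm.2.2.1, rfl⟩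
    obtain ⟨t, ht, hte⟩ := hg (D.hom mr) ⟨mr, mem_mT.2 cent_a_comm.2.2.2, rfl⟩
    have hz : g * D.z * g⁻¹ = D.hom (s * t * s⁻¹ * t⁻¹) := by
      rw [CentData.z, ← cent_a_comm.2.1]
      simp only [map_mul, map_inv, hse, hte]
      group
    rcases cent_a_comm.1 s t (mem_mT.1 hs) (mem_mT.1 ht) with h | h
    · rw [h, map_one, conj_eq_one_iff] at hz
      exact absurd hz (CfsgLib.Invol.ne_one_of_invol D.orderOf_z)
    · rw [h] at hz
      exact mul_inv_eq_iff_eq_mul.1 hz
  · intro k hk
    obtain ⟨x, rfl⟩ := hKr hk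
    exact ⟨x, mem_mT.2 (D.inj (by
      rw [map_mul, map_mul]; exact Subgroup.mem_centralizer_singleton_iff.1 (hKX hk))), rfl⟩

theorem CentData.isConj_of_lab {x y : CM} (hx : lab x ≠ 0) (h : lab x = lab y) :
    IsConj (D.hom x) (D.hom y) :=
  (D.isConj_crep hx).symm.trans (h ▸ D.isConj_crep (h ▸ hx))

/-- An element conjugate to one of the first two classes has a centraliser with 32 dividing its order. -/
theorem CentData.not_isConj_a [Finite G] {y : CM} (hy : lab y = 1 ∨ lab y = 2) :
    ¬ IsConj (D.hom ma) (D.hom y) := by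
  have : Fact (Nat.Prime 2) := ⟨Nat.prime_two⟩
  intro h
  obtain ⟨g, hg⟩ := isConj_iff.1 h
  set T := mT.map D.hom with hT
  set X := Subgroup.centralizer ({D.hom ma} : Set G) with hX
  have hTX : T ≤ X := by
    rintro _ ⟨x, hx, rfl⟩
    exact Subgroup.mem_centralizer_singleton_iff.2 (by rw [← map_mul, ← map_mul, mem_mT.1 hx])
  have hTp : IsPGroup 2 ↥T := IsPGroup.of_card (n := 4) (by rw [hT, D.card_map, card_mT]; norm_num)
  obtain ⟨P, hP⟩ := (hTp.comap_subtype (K := X)).exists_le_sylow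
  have hle : T ≤ (P : Subgroup X).map X.subtype := fun x hx =>
    ⟨⟨x, hTX hx⟩, hP hx, rfl⟩
  have hPc : Nat.card P = 16 := by
    have h := D.T_maximal (P.2.map X.subtype) hle (Subgroup.map_subtype_le _)
    have h2 := congrArg (fun K : Subgroup G => Nat.card K) h
    simp only [Subgroup.card_map_of_injective X.subtype_injective, D.card_map, card_mT] at h2
    exact h2
  have hd : 32 ∣ Nat.card X := by
    have hcomm : ∀ c : CM, c * y = y * c → g⁻¹ * D.hom c * g ∈ X := by
      intro c hc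
      refine Subgroup.mem_centralizer_singleton_iff.2 ?_
      have : D.hom c * D.hom y = D.hom y * D.hom c := by rw [← map_mul, ← map_mul, hc]
      rw [← hg] at this
      calc g⁻¹ * D.hom c * g * D.hom ma = g⁻¹ * (D.hom c * (g * D.hom ma * g⁻¹)) * g := by group
        _ = D.hom ma * (g⁻¹ * D.hom c * g) := by rw [this]; group
    let f : ↥(Subgroup.centralizer ({y} : Set CM)) →* ↥X :=
      MonoidHom.mk' (fun c => ⟨g⁻¹ * D.hom c.1 * g, hcomm _ (Subgroup.mem_centralizer_singleton_iff.1 c.2)⟩)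
        fun c c' => Subtype.ext (show g⁻¹ * D.hom (c.1 * c'.1) * g =
          g⁻¹ * D.hom c.1 * g * (g⁻¹ * D.hom c'.1 * g) by rw [map_mul]; group)
    have hf : Function.Injective f := fun c c' e => by
      have e' : g⁻¹ * D.hom c.1 * g = g⁻¹ * D.hom c'.1 * g := congrArg Subtype.val e
      exact Subtype.ext (D.inj (mul_left_cancel (mul_right_cancel e')))
    have h0 : lab y ≠ 0 := by omega
    have hc : Nat.card ↥(Subgroup.centralizer ({y} : Set CM)) = [0, 192, 32, 16, 8].getD (lab y) 0 :=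
      (Nat.card_congr (Equiv.subtypeEquivRight fun x => Subgroup.mem_centralizer_singleton_iff)).trans
        (card_cent h0)
    refine dvd_trans ?_ (Subgroup.card_dvd_of_injective f hf)
    rcases hy with hy | hy <;> rw [hc, hy] <;> norm_num
  have hd2 : 2 ^ 5 ∣ Nat.card P := Sylow.pow_dvd_card_of_pow_dvd_card _ (by simpa using hd)
  rw [hPc] at hd2
  norm_num at hd2

section Simple

variable [Finite G] [IsSimpleGroup G] (hG : ¬ IsMulCommutative G)

include hG in
theorem center_eq_bot : Subgroup.center G = ⊥ := by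
  rcases (inferInstance : (Subgroup.center G).Normal).eq_bot_or_eq_top with h | h
  · exact h
  · exact absurd ⟨⟨fun a b => (Subgroup.mem_center_iff.1 (h ▸ Subgroup.mem_top b) a)⟩⟩ hG

include hG in
/-- The central involution is conjugate to those of class 2. -/
theorem CentData.isConj_z_q : IsConj D.z (D.hom mq) := by
  have : Fact (Nat.Prime 2) := ⟨Nat.prime_two⟩
  by_contra hzq
  have hz2 := D.orderOf_z
  obtain ⟨g, hgP, hgne⟩ : ∃ g : G, g * D.z * g⁻¹ ∈ (D.sylow : Subgroup G) ∧ g * D.z * g⁻¹ ≠ D.z := by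
    by_contra hcon
    push Not at hcon
    obtain ⟨N, hN, hNo, hNc⟩ := CfsgLib.Invol.zStar_sylow D.sylow D.z hz2 hcon
    rcases hN.eq_bot_or_eq_top with rfl | rfl
    · refine CfsgLib.Invol.ne_one_of_invol hz2 ?_
      rw [← Subgroup.mem_bot, ← center_eq_bot hG, Subgroup.mem_center_iff]
      intro g
      have := hNc g
      rw [Subgroup.mem_bot, mul_inv_eq_one, mul_inv_eq_iff_eq_mul] at this
      exact this.symm
    · rw [Subgroup.card_top] at hNo
      have hd : orderOf D.z ∣ Nat.card G := orderOf_dvd_natCard _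
      rw [hz2] at hd
      exact Nat.not_even_iff_odd.2 hNo (even_iff_two_dvd.2 hd)
  obtain ⟨v, -, hv⟩ := hgP
  have hv0 : lab v ≠ 0 := D.lab_ne_zero (by rw [hv, CfsgLib.Invol.orderOf_conj, hz2])
  have hconjv : IsConj D.z (D.hom v) := isConj_iff.2 ⟨g, hv.symm⟩
  have hv4 : lab v = 4 := by
    have h4 := lab_le v
    have h1 : lab v ≠ 1 := fun h => hgne (by rw [← hv, (lab_one_iff v).1 h]; rfl)
    have h2 : lab v ≠ 2 := fun h => hzq (hconjv.trans
      (D.isConj_of_lab hv0 (h.trans lab_facts.2.1.symm)))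
    have h3 : lab v ≠ 3 := fun h => D.not_isConj_a (y := mz) (Or.inl lab_facts.1)
      ((D.isConj_of_lab hv0 (h.trans lab_facts.2.2.2.2.1.symm)).symm.trans hconjv.symm)
    omega
  set b := crep 4 with hb
  have hb4 : lab b = 4 := lab_facts.2.2.2.2.2.2.2.2.2.2
  have hzb : IsConj (D.hom b) D.z :=
    (D.isConj_of_lab (by omega) (hb4.trans hv4.symm)).trans hconjv.symm
  obtain ⟨h, hh⟩ := isConj_iff.1 hzb
  -- the image of `z`
  have hcomm : ∀ x : CM, x * b = b * x → (h * D.hom x * h⁻¹) * D.z = D.z * (h * D.hom x * h⁻¹) := by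
    intro x hx
    rw [← hh]
    calc h * D.hom x * h⁻¹ * (h * D.hom b * h⁻¹) = h * D.hom (x * b) * h⁻¹ := by rw [map_mul]; group
      _ = h * D.hom b * h⁻¹ * (h * D.hom x * h⁻¹) := by rw [hx, map_mul]; group
  obtain ⟨b', hb'⟩ := D.exists_of_comm (hcomm mz (mz_central b).symm)
  have hb'0 : lab b' ≠ 0 := D.lab_ne_zero (by rw [hb', CfsgLib.Invol.orderOf_conj]; exact hz2)
  have hb'4 : lab b' = 4 := by
    have h1 := D.card_cent_pair hb'0
    have h2 := D.card_cent_pair (x := b) (by omega)
    have h3 := card_pair_conj h (D.hom b) D.z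
    rw [hh] at h3
    have h4 : Nat.card {g : G // g * D.hom b = D.hom b * g ∧ g * D.z = D.z * g} =
        Nat.card {g : G // g * D.z = D.z * g ∧ g * D.hom b = D.hom b * g} :=
      Nat.card_congr (Equiv.subtypeEquivRight fun _ => and_comm)
    rw [hb'] at h1
    rw [← show h * D.z * h⁻¹ = h * D.hom mz * h⁻¹ from rfl, h3, h4, h2, hb4] at h1
    have := lab_le b'
    interval_cases (lab b') <;> simp_all
  -- the images of the involutions of class 2
  obtain ⟨u, hu, hub, huz⟩ := four_exists_two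
  have himg : ∀ w : CM, lab w = 2 → w * b = b * w → ∃ w' : CM,
      D.hom w' = h * D.hom w * h⁻¹ ∧ lab w' = 2 ∧ w' * b' = b' * w' := by
    intro w hw hwb
    obtain ⟨w', hw'⟩ := D.exists_of_comm (hcomm w hwb)
    have hw'b : w' * b' = b' * w' := by
      refine D.inj ?_
      rw [map_mul, map_mul, hw', hb']
      calc h * D.hom w * h⁻¹ * (h * D.hom mz * h⁻¹) = h * D.hom (w * mz) * h⁻¹ := by rw [map_mul]; group
        _ = h * D.hom mz * h⁻¹ * (h * D.hom w * h⁻¹) := by rw [mz_central, map_mul]; group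
    have hw'0 : lab w' ≠ 0 := D.lab_ne_zero (by
      rw [hw', CfsgLib.Invol.orderOf_conj]; exact D.orderOf_invol (by omega))
    have hconj : IsConj (D.hom w) (D.hom w') := isConj_iff.2 ⟨h, hw'.symm⟩
    have hwq : IsConj (D.hom mq) (D.hom w) :=
      D.isConj_of_lab (by rw [lab_facts.2.1]; norm_num) (lab_facts.2.1.trans hw.symm)
    have h4 := lab_le w'
    have n1 : lab w' ≠ 1 := fun e => hzq (by
      rw [(lab_one_iff w').1 e] at hconj
      exact (hwq.trans hconj).symm)
    have n3 : lab w' ≠ 3 := four_no_three b' hb'4 w' hw'b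
    have n4 : lab w' ≠ 4 := fun e => hzq
      ((hwq.trans (hconj.trans ((D.isConj_of_lab hw'0 (e.trans hb4.symm)).trans hzb))).symm)
    exact ⟨w', hw', by omega, hw'b⟩
  obtain ⟨u', hu', hu'2, hu'b⟩ := himg u hu hub
  obtain ⟨w', hw', hw'2, hw'b⟩ := himg (u * mz) huz
    (by rw [mul_assoc, ← mz_central b, ← mul_assoc, hub, mul_assoc])
  refine four_two_two b' hb'4 u' hu'2 hu'b w' hw'2 hw'b (D.inj ?_)
  rw [map_mul, hu', hw', hb', map_mul]
  have : D.hom u * D.hom u = 1 := by
    rw [← map_mul]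
    have h0 : u * u = 1 ∧ u ≠ 1 := by
      by_contra hn; exact (by omega : lab u ≠ 0) ((lab_eq_zero_iff u).2 hn)
    rw [h0.1, map_one]
  calc h * D.hom u * h⁻¹ * (h * (D.hom u * D.hom mz) * h⁻¹)
      = h * (D.hom u * D.hom u) * D.hom mz * h⁻¹ := by group
    _ = h * D.hom mz * h⁻¹ := by rw [this, mul_one]

include hG in
/-- An involution of class 4 is conjugate to `z` or to an involution of class 3. -/
theorem CentData.four_cases : IsConj D.z (D.hom (crep 4)) ∨ IsConj (D.hom ma) (D.hom (crep 4)) := by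
  have : Fact (Nat.Prime 2) := ⟨Nat.prime_two⟩
  by_contra hcon
  push Not at hcon
  obtain ⟨hz, ha⟩ := hcon
  have hb4 : lab (crep 4) = 4 := lab_facts.2.2.2.2.2.2.2.2.2.2
  set Q := mQ.map D.hom with hQ
  have hrel : Q.relIndex (D.sylow : Subgroup G) = 2 := by
    have hle : Q ≤ (D.sylow : Subgroup G) := Subgroup.map_mono fun x hx => (inQ_facts.2.1 x hx).1
    have h := Subgroup.relIndex_mul_relIndex (⊥ : Subgroup G) Q (D.sylow : Subgroup G) bot_le hle
    rw [Subgroup.relIndex_bot_left, Subgroup.relIndex_bot_left, hQ, D.card_map, card_mQ, D.sylow_coe,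
      D.card_map, card_mS] at h
    rw [hQ, D.sylow_coe]
    omega
  have hodd : Odd (D.sylow : Subgroup G).index := Nat.odd_iff.2 (by
    have := D.sylow.not_dvd_index
    omega)
  have hu2 : D.hom (crep 4) ^ 2 = 1 := by
    rw [← D.orderOf_invol (x := crep 4) (by omega), pow_orderOf_eq_one]
  obtain ⟨M, hM, hMi, -⟩ := CfsgLib.ThompsonTransfer.exists_normal_index_two (D.sylow : Subgroup G) Q hodd
    hrel (D.hom (crep 4)) hu2 (fun g hg => by
      obtain ⟨x, hx, hxe⟩ := hg
      have hx0 : lab x ≠ 0 := D.lab_ne_zero (by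
        rw [hxe, CfsgLib.Invol.orderOf_conj]; exact D.orderOf_invol (by omega))
      have hconj : IsConj (D.hom x) (D.hom (crep 4)) := (isConj_iff.2 ⟨g, hxe.symm⟩).symm
      have h4 := lab_le x
      have n4 := (inQ_facts.2.1 x hx).2.2
      rcases (show lab x = 1 ∨ lab x = 2 ∨ lab x = 3 by omega) with e | e | e
      · exact hz (by rw [(lab_one_iff x).1 e] at hconj; exact hconj)
      · exact hz ((D.isConj_z_q hG).trans
          ((D.isConj_of_lab (by rw [lab_facts.2.1]; norm_num) (lab_facts.2.1.trans e.symm)).trans hconj))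
      · exact ha ((D.isConj_of_lab (by rw [lab_facts.2.2.2.2.1]; norm_num)
          (lab_facts.2.2.2.2.1.trans e.symm)).trans hconj))
  rcases hM.eq_bot_or_eq_top with rfl | rfl
  · rw [Subgroup.index_bot] at hMi
    have := Subgroup.card_subgroup_dvd_card (D.sylow : Subgroup G)
    rw [D.sylow_coe, D.card_map, card_mS, hMi] at this
    norm_num at this
  · rw [Subgroup.index_top] at hMi
    norm_num at hMi

end Simple

end CfsgLib.M12Recog
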