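import Cfsg.Agent.Lib.M12Recog.Model

/-!
Facts about the model of the centraliser, checked by enumeration.
-/

set_option autoImplicit false
set_option maxRecDepth 100000

namespace CfsgLib.M12Recog

/-- The central involution. -/
def mz : CM := CM.ofNat zI
/-- An involution with centraliser of order 16. -/
def ma : CM := CM.ofNat aI
/-- A second one in the centraliser of `ma`. -/
def mr : CM := CM.ofNat rI
/-- An involution with centraliser of order 32. -/
def mq : CM := CM.ofNat qI
/-- An element of order 3 permuting `ma`, `mr` and their product. -/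
def mx : CM := CM.ofNat xI
/-- An involution with centraliser of order 32 that commutes with `mq`. -/
def mc : CM := CM.ofNat cI

/-- The element with given index (`1` if out of range). -/
noncomputable def nth (i : ℕ) : CM := if h : i < 192 then CM.ofNat i h else 1

/-- The class of an involution: 1 to 4 by decreasing order of centraliser, 0 for other elements. -/
noncomputable def lab (x : CM) : ℕ := (labTab >>> (4 * (x.i : ℕ))) &&& 15

/-- The representatives of the classes. -/
noncomputable def crep (k : ℕ) : CM := nth (repList.getD k 0)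

/-- An element conjugating the representative to the given involution. -/
noncomputable def cjr (x : CM) : CM := nth ((conjTab >>> (8 * (x.i : ℕ))) &&& 255)

/-- Membership in the chosen Sylow 2-subgroup. -/
noncomputable def inS (x : CM) : Bool := Nat.beq ((sylTab >>> (x.i : ℕ)) &&& 1) 1

/-- Membership in the largest normal 2-subgroup. -/
noncomputable def inQ (x : CM) : Bool := Nat.beq ((coreTab >>> (x.i : ℕ)) &&& 1) 1

theorem lab_eq_zero_iff : ∀ x : CM, lab x = 0 ↔ ¬ (x * x = 1 ∧ x ≠ 1) := by decide +kernel

theorem lab_le : ∀ x : CM, lab x ≤ 4 := by decide +kernel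

theorem conj_crep : ∀ x : CM, lab x ≠ 0 → cjr x * crep (lab x) * (cjr x)⁻¹ = x := by decide +kernel

theorem card_cent_filter : ∀ x : CM, lab x ≠ 0 →
    (Finset.univ.filter fun y : CM => y * x = x * y).card = [0, 192, 32, 16, 8].getD (lab x) 0 := by
  decide +kernel

theorem lab_one_iff : ∀ x : CM, lab x = 1 ↔ x = mz := by decide +kernel

theorem mz_central : ∀ x : CM, x * mz = mz * x := by decide +kernel

theorem crep_one : crep 1 = mz := by decide +kernel

theorem crep_two : crep 2 = mq := by decide +kernel

theorem crep_three : crep 3 = ma := by decide +kernel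

theorem lab_facts : lab mz = 1 ∧ lab mq = 2 ∧ lab (mq * mz) = 2 ∧ lab mc = 2 ∧ lab ma = 3 ∧ lab mr = 3 ∧
    lab (ma * mr) = 3 ∧ lab (mz * ma) = 3 ∧ lab (mq * ma) = 3 ∧ lab (mq * mz * ma) = 3 ∧
    lab (crep 4) = 4 := by
  decide +kernel

theorem inS_facts : inS 1 = true ∧ inS mz = true ∧ inS (crep 4) = inS (crep 4) ∧
    (∀ x : CM, x * ma = ma * x → inS x = true) ∧ (∀ x : CM, inS x = true → inS x⁻¹ = true) := by
  decide +kernel

theorem inS_mul : ∀ x y : CM, inS x = true → inS y = true → inS (x * y) = true := by decide +kernel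

theorem card_inS : (Finset.univ.filter fun x : CM => inS x = true).card = 64 := by decide +kernel

theorem center_inS : ∀ x : CM, inS x = true → (∀ y : CM, inS y = true → x * y = y * x) → x = 1 ∨ x = mz := by
  decide +kernel

theorem inQ_facts : inQ 1 = true ∧ (∀ x : CM, inQ x = true → inS x = true ∧ inQ x⁻¹ = true ∧ lab x ≠ 4) ∧
    (∃ b : CM, inS b = true ∧ lab b = 4) ∧ (Finset.univ.filter fun x : CM => inQ x = true).card = 32 := by
  decide +kernel

theorem inQ_mul : ∀ x y : CM, inQ x = true → inQ y = true → inQ (x * y) = true := by decide +kernel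

/-- Commutators in the centraliser of `ma` are `1` or `mz`, and `mz` is one. -/
theorem cent_a_comm : (∀ s t : CM, s * ma = ma * s → t * ma = ma * t →
    s * t * s⁻¹ * t⁻¹ = 1 ∨ s * t * s⁻¹ * t⁻¹ = mz) ∧
    mq * mr * mq⁻¹ * mr⁻¹ = mz ∧ mq * ma = ma * mq ∧ mr * ma = ma * mr := by
  decide +kernel

theorem rel_aqrz : ma * ma = 1 ∧ mr * mr = 1 ∧ mq * mq = 1 ∧ mz * mz = 1 ∧ mq * mr * (mq * mr) = mz ∧
    mq * ma = ma * mq ∧ mr * ma = ma * mr ∧ ma ≠ 1 ∧ mr ≠ 1 ∧ mr ≠ ma := by
  decide +kernel

/-- No element commuting with an involution of class 4 has class 3. -/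
theorem four_no_three : ∀ v : CM, lab v = 4 → ∀ u : CM, u * v = v * u → lab u ≠ 3 := by decide +kernel

/-- An involution of class 4 is no product of two commuting ones of class 2. -/
theorem four_two_two : ∀ v : CM, lab v = 4 → ∀ u : CM, lab u = 2 → u * v = v * u →
    ∀ w : CM, lab w = 2 → w * v = v * w → u * w ≠ v := by
  decide +kernel

theorem four_exists_two : ∃ u : CM, lab u = 2 ∧ u * crep 4 = crep 4 * u ∧ lab (u * mz) = 2 := by
  decide +kernel

theorem pow_eight_or_six : ∀ w : CM, w ^ 8 = 1 ∨ w ^ 6 = 1 := by decide +kernel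

end CfsgLib.M12Recog
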