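import Cfsg.Agent.Lib.CosetEnum.LetterCert

/-!
Presentations for M12 by the centraliser of a 2-central involution and an element `y` of order 3.

Letters: `0`, `1` are `y` and its inverse; `2`–`7` three generators of the centraliser and their inverses.
Generated file.
-/

set_option autoImplicit false

namespace CfsgLib.M12Recog

/-- The inverse table of the letters. -/
def ip : ℕ := 18364758544240419585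

/-- Relators of the centraliser. -/
def relC : List (List ℕ) :=
  [[6, 6, 6, 6],
   [2, 4, 2, 4],
   [4, 2, 4, 3],
   [6, 2, 4, 6, 4, 7, 5],
   [4, 6, 6, 4, 6, 3, 7]]

/-- The commutators of `y`. -/
def relY : List (List ℕ) :=
  [[0, 6, 6, 6, 2, 6, 1, 7, 3, 7, 7, 7],
   [0, 6, 4, 6, 6, 2, 1, 3, 7, 7, 5, 7]]

/-- Relators of the symmetric group. -/
def relS : List (List ℕ) :=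
  [[0, 0, 4, 6, 2, 6, 4, 0, 4, 4, 4, 4, 0, 5, 7, 3, 7, 5, 1, 5, 5, 5, 5],
   [0, 0, 4, 2, 6, 6, 4, 4, 6, 2, 6, 4, 0, 4, 2, 6, 6, 4, 1, 5, 7, 3, 7, 5, 1, 5, 5, 5, 5],
   [0, 0, 4, 6, 2, 6, 4, 0, 0, 4, 4, 4, 4, 1, 5, 7, 3, 7, 5, 1, 5, 5, 5, 5],
   [4, 4, 4, 4, 0, 4, 6, 2, 6, 4, 0, 4, 4, 4, 4, 1, 1, 5, 7, 3, 7, 5, 1, 1],
   [4, 4, 4, 4, 0, 4, 6, 2, 6, 4, 0, 4, 2, 6, 6, 4, 1, 5, 7, 3, 7, 5, 5, 7, 7, 3, 5, 1, 1],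
   [0, 4, 6, 2, 6, 4, 0, 4, 6, 2, 6, 4, 0, 4, 6, 2, 6, 4, 0, 5, 7, 3, 7, 5, 1, 1, 5, 7, 3, 7, 5]]

/-- The remaining relator, one for each candidate. -/
def relG : List (List ℕ) :=
  [[0, 0, 4, 6, 2, 6, 4, 0, 4, 6, 2, 6, 4, 0, 4, 2, 6, 6, 4, 6, 6, 5, 7, 7, 3, 5, 1, 5, 7, 3, 7, 5, 1, 5, 7, 3, 7, 5, 1, 1, 3, 5],
   [0, 0, 4, 6, 2, 6, 4, 0, 4, 6, 2, 6, 4, 0, 4, 2, 6, 6, 4, 6, 6, 5, 7, 7, 3, 5, 1, 5, 7, 3, 7, 5, 1, 5, 7, 3, 7, 5, 1, 1, 7, 3, 7, 3, 5],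
   [0, 0, 4, 6, 2, 6, 4, 0, 4, 6, 2, 6, 4, 0, 4, 2, 6, 6, 4, 6, 6, 5, 7, 7, 3, 5, 1, 5, 7, 3, 7, 5, 1, 5, 7, 3, 7, 5, 1, 1, 3, 5, 7, 3, 7],
   [0, 0, 4, 6, 2, 6, 4, 0, 4, 6, 2, 6, 4, 0, 4, 2, 6, 6, 4, 6, 6, 5, 7, 7, 3, 5, 1, 5, 7, 3, 7, 5, 1, 5, 7, 3, 7, 5, 1, 1, 5, 5, 5, 3],
   [0, 0, 4, 6, 2, 6, 4, 0, 4, 6, 2, 6, 4, 0, 4, 2, 6, 6, 4, 6, 6, 5, 7, 7, 3, 5, 1, 5, 7, 3, 7, 5, 1, 5, 7, 3, 7, 5, 1, 1, 7, 7],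
   [0, 0, 4, 6, 2, 6, 4, 0, 4, 6, 2, 6, 4, 0, 4, 2, 6, 6, 4, 6, 6, 5, 7, 7, 3, 5, 1, 5, 7, 3, 7, 5, 1, 5, 7, 3, 7, 5, 1, 1, 3, 7, 7, 3],
   [0, 0, 4, 6, 2, 6, 4, 0, 4, 6, 2, 6, 4, 0, 4, 2, 6, 6, 4, 6, 6, 5, 7, 7, 3, 5, 1, 5, 7, 3, 7, 5, 1, 5, 7, 3, 7, 5, 1, 1, 5, 7, 3, 7, 3],
   [0, 0, 4, 6, 2, 6, 4, 0, 4, 6, 2, 6, 4, 0, 4, 2, 6, 6, 4, 6, 6, 5, 7, 7, 3, 5, 1, 5, 7, 3, 7, 5, 1, 5, 7, 3, 7, 5, 1, 1, 5, 3],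
   [0, 0, 4, 6, 2, 6, 4, 0, 4, 6, 2, 6, 4, 0, 4, 2, 6, 6, 4, 6, 6, 5, 7, 7, 3, 5, 1, 5, 7, 3, 7, 5, 1, 5, 7, 3, 7, 5, 1, 1, 3, 5, 5, 5],
   [0, 0, 4, 6, 2, 6, 4, 0, 4, 6, 2, 6, 4, 0, 4, 2, 6, 6, 4, 6, 6, 5, 7, 7, 3, 5, 1, 5, 7, 3, 7, 5, 1, 5, 7, 3, 7, 5, 1, 1, 7, 3, 7, 5, 3],
   [0, 0, 4, 6, 2, 6, 4, 0, 4, 6, 2, 6, 4, 0, 4, 2, 6, 6, 4, 6, 6, 5, 7, 7, 3, 5, 1, 5, 7, 3, 7, 5, 1, 5, 7, 3, 7, 5, 1, 1, 5, 7, 7, 3, 5, 3],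
   [0, 0, 4, 6, 2, 6, 4, 0, 4, 6, 2, 6, 4, 0, 4, 2, 6, 6, 4, 6, 6, 5, 7, 7, 3, 5, 1, 5, 7, 3, 7, 5, 1, 5, 7, 3, 7, 5, 1, 1, 7, 5, 5, 7, 3]]

/-- The relators for the candidate `i`. -/
def rels (i : ℕ) : List (List ℕ) := relC ++ relY ++ relS ++ [relG.getD i []]

/-- The subgroup of the centraliser. -/
def subC : List (List ℕ) :=
  [[2], [4], [6]]

/-- The subgroup. -/
def subWords : List (List ℕ) :=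
  [[0],
   [6, 6, 6, 2, 6],
   [4, 2, 6, 6, 4],
   [4, 6, 2, 6, 4],
   [4, 4, 4, 4]]

/-- The letters of the symmetric group as words. -/
def sub5 : List (List ℕ) :=
  [[0], [1], [4, 2, 6, 6, 4], [5, 7, 7, 3, 5], [4, 6, 2, 6, 4], [5, 7, 3, 7, 5], [4, 4, 4, 4], [5, 5, 5, 5]]

/-- Relators of the symmetric group in its letters. -/
def rel5 : List (List ℕ) :=
  [[0, 0, 4, 0, 6, 0, 5, 1, 7], [0, 0, 2, 4, 0, 2, 1, 5, 1, 7], [0, 0, 4, 0, 0, 6, 1, 5, 1, 7], [6, 0, 4, 0, 6, 1, 1, 5, 1, 1], [6, 0, 4, 0, 2, 1, 5, 3, 1, 1], [0, 4, 0, 4, 0, 4, 0, 5, 1, 1, 5]]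

/-- The word of the element exchanging `z` and `q`. -/
def gWord : List ℕ :=
  [0, 0, 4, 0, 4, 0, 2]

/-- Its inverse. -/
def gWordInv : List ℕ :=
  [3, 1, 5, 1, 5, 1, 1]

/-- The words of `ma`, `mx`, `mc`. -/
def aWord : List ℕ := [6, 6, 6, 2, 6]
/-- The word of `mx`. -/
def xWord : List ℕ := [6, 4, 6, 6, 2]
/-- The word of `mc`. -/
def cWord : List ℕ := [6, 6]
/-- The words of the candidates. -/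
def dWords : List (List ℕ) :=
  [[4, 2], [4, 2, 6, 2, 6], [6, 2, 6, 4, 2], [2, 4, 4, 4], [6, 6], [2, 6, 6, 2], [2, 6, 2, 6, 4], [2, 4], [4, 4, 4, 2], [2, 4, 6, 2, 6], [2, 4, 2, 6, 6, 4], [2, 6, 4, 4, 6]]

end CfsgLib.M12Recog
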