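import Cfsg.Agent.Lib.M12Recog.Order
import Cfsg.Agent.Lib.M12Recog.Presentation

/-!
An element of the centraliser of `z` permuting a four-group and commuting with `y`, and the relators.
-/

set_option autoImplicit false
set_option maxRecDepth 100000

namespace CfsgLib.M12Recog

open Equiv

/-- The element `y` of order 3. -/
def y5 : Perm (Fin 5) := swap 0 1 * swap 1 2

/-- The element exchanging `z5` and `q5`. -/
def g5 : Perm (Fin 5) := swap 1 3

theorem y5_facts : y5 ^ 3 = 1 ∧ y5 ≠ 1 ∧ z5 * y5 * z5⁻¹ = y5⁻¹ ∧ y5 * r5 = r5 * y5 ∧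
    (∀ s : Perm (Fin 5), s * y5 = y5 * s → ∃ (i : Fin 3) (j : Fin 2), s = y5 ^ (i : ℕ) * r5 ^ (j : ℕ)) ∧
    (∀ s : Perm (Fin 5), s ^ 3 = 1 → s ≠ 1 →
      (Finset.univ.filter fun t : Perm (Fin 5) => t * s = s * t).card = 6) := by
  decide +kernel

theorem even_invol : ∀ s : Perm (Fin 5), s * s = 1 → Perm.sign s = 1 → s ≠ 1 →
    ∃ h, h * z5 * h⁻¹ = s := by
  decide +kernel

theorem g5_facts : g5 * z5 * g5⁻¹ = q5 ∧ g5 * q5 * g5⁻¹ = z5 ∧ g5 * g5 = 1 := by decide +kernel

theorem four_labs : lab (mz * ma) = 3 ∧ lab (mz * mr) = 3 ∧ lab (mz * (ma * mr)) = 3 ∧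
    ∀ v : CM, (v = ma ∨ v = mr ∨ v = ma * mr) → v * v = 1 := by
  decide +kernel

theorem mx_unique : ∀ x : CM, x ^ 3 = 1 → x * ma * x⁻¹ = mr → x * mr * x⁻¹ = ma * mr →
    mx = x ∨ mx = x * ma ∨ mx = x * mr ∨ mx = x * (ma * mr) := by
  decide +kernel

/-- The type of an element: trivial, first class, second class, no involution. -/
noncomputable def ot (x : CM) : ℕ :=
  if x = 1 then 0 else if x * x = 1 then (if lab x = 3 then 2 else 1) else 3

/-- The action of the exchanging element on the known subgroup of order 8. -/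
noncomputable def kPairs : List (CM × CM) :=
  [(1, 1), (ma, ma), (mz, mq), (mz * ma, mq * ma), (mq, mz), (mq * ma, mz * ma), (mq * mz, mq * mz),
   (mq * mz * ma, mq * mz * ma)]

theorem candidates : ∀ d : CM, d * mq = mq * d →
    (∀ p ∈ kPairs, ot (mc * p.1) = ot (d * p.2) ∧
      ot (mc * p.1 * (mc * p.1)) = ot (d * p.2 * (d * p.2))) →
    ∃ i : Fin 12, d = nth (dIdx.getD i 0) := by
  decide +kernel

/-- The letters of the model. -/
noncomputable def mlet : ℕ → CM
  | 2 => nth (gensIdx.getD 0 0)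
  | 3 => (nth (gensIdx.getD 0 0))⁻¹
  | 4 => nth (gensIdx.getD 1 0)
  | 5 => (nth (gensIdx.getD 1 0))⁻¹
  | 6 => nth (gensIdx.getD 2 0)
  | 7 => (nth (gensIdx.getD 2 0))⁻¹
  | _ => 1

/-- The letters of the symmetric group. -/
def plet : ℕ → Perm (Fin 5)
  | 0 => y5
  | 1 => y5⁻¹
  | 2 => r5
  | 3 => r5⁻¹
  | 4 => q5
  | 5 => q5⁻¹
  | 6 => z5
  | 7 => z5⁻¹
  | _ => 1

/-- The word uses letters of the centraliser only. -/
def onlyC (l : List ℕ) : Bool := l.all fun x => Nat.ble 2 x && Nat.blt x 8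

theorem word_facts :
    (relC.all fun l => onlyC l && decide ((l.map mlet).prod = 1)) = true ∧
    (onlyC aWord && decide ((aWord.map mlet).prod = ma)) = true ∧
    (onlyC xWord && decide ((xWord.map mlet).prod = mx)) = true ∧
    (onlyC cWord && decide ((cWord.map mlet).prod = mc)) = true ∧
    ((List.range 12).all fun i => onlyC (dWords.getD i []) &&
      decide (((dWords.getD i []).map mlet).prod = nth (dIdx.getD i 0))) = true ∧
    (((List.range 8).drop 2).all fun v => onlyC (sub5.getD v [])) = true ∧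
    ((sub5.getD 2 []).map mlet).prod = mr ∧ ((sub5.getD 3 []).map mlet).prod = mr⁻¹ ∧
    ((sub5.getD 4 []).map mlet).prod = mq ∧ ((sub5.getD 5 []).map mlet).prod = mq⁻¹ ∧
    ((sub5.getD 6 []).map mlet).prod = mz ∧ ((sub5.getD 7 []).map mlet).prod = mz⁻¹ := by
  decide +kernel

/-- The commutator word. -/
def commWord (u v : List ℕ) : List ℕ := u ++ v ++ CfsgLib.CosetEnum.invWord ip u ++ CfsgLib.CosetEnum.invWord ip v

theorem word_shapes :
    relY = [commWord [0] aWord, commWord [0] xWord] ∧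
    relS = rel5.map (fun l => l.flatMap fun v => sub5.getD v []) ∧
    ((List.range 12).all fun i => decide (relG.getD i [] =
      gWord.flatMap (fun v => sub5.getD v []) ++ cWord ++ gWordInv.flatMap (fun v => sub5.getD v []) ++
        CfsgLib.CosetEnum.invWord ip (dWords.getD i []))) = true ∧
    (gWord.all fun v => Nat.blt v 8) = true ∧ (gWordInv.all fun v => Nat.blt v 8) = true ∧
    (rel5.all fun l => (l.all fun v => Nat.blt v 8) && decide ((l.map plet).prod = 1)) = true ∧
    (gWord.map plet).prod = g5 ∧ (gWordInv.map plet).prod = g5⁻¹ ∧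
    (∀ x : Fin 16, CfsgLib.CosetEnum.linv ip x < 16) ∧
    ((List.range 12).all fun i => (rels i).all fun l => l.all fun x => Nat.blt x 8) = true ∧
    ((subWords ++ subC).all fun l => l.all fun x => Nat.blt x 8) = true := by
  decide +kernel

variable {G : Type*} [Group G] (D : CentData G) (S : Shape D 5 z5 q5 r5)

/-- The element `y`. -/
noncomputable def Shape.y : G := S.hom y5

/-- The four-group and the element `y` commute. -/
theorem Shape.y_comm : S.y * D.a = D.a * S.y ∧ S.y * D.hom mr = D.hom mr * S.y := by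
  refine ⟨S.comm _, ?_⟩
  rw [← S.map_r, Shape.y, ← map_mul, ← map_mul, y5_facts.2.2.2.1]

theorem Shape.z_inv_y : D.z * S.y * D.z⁻¹ = S.y⁻¹ := by
  rw [← S.map_z, Shape.y, ← map_inv, ← map_inv, ← map_mul, ← map_mul, y5_facts.2.2.1]

theorem Shape.y_pow_three : S.y ^ 3 = 1 := by rw [Shape.y, ← map_pow, y5_facts.1, map_one]

theorem Shape.y_ne_one : S.y ≠ 1 := fun h => y5_facts.2.1 (S.inj (h.trans (map_one _).symm))

/-- The normal form of an element commuting with `a` and `y`. -/
theorem Shape.mem_w {g : G} (ha : g * D.a = D.a * g) (hy : g * S.y = S.y * g) :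
    ∃ (i : ℕ) (v : CM), (v = 1 ∨ v = ma ∨ v = mr ∨ v = ma * mr) ∧ g = S.y ^ i * D.hom v := by
  have hy' : S.y * D.a = D.a * S.y := (S.y_comm D).1
  obtain ⟨s, hs⟩ := S.cover g ha
  have hs5 : s * y5 = y5 * s := by
    refine S.inj ?_
    rw [map_mul, map_mul]
    rcases hs with rfl | rfl
    · exact hy
    · have h : S.hom s * D.a * S.y = S.y * (S.hom s * D.a) := hy
      rw [mul_assoc, ← hy', ← mul_assoc, ← mul_assoc] at h
      exact mul_right_cancel h
  obtain ⟨i, j, rfl⟩ := y5_facts.2.2.2.2.1 s hs5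
  have hj : S.hom (y5 ^ (i : ℕ) * r5 ^ (j : ℕ)) = S.y ^ (i : ℕ) * D.hom (mr ^ (j : ℕ)) := by
    rw [map_mul, map_pow, map_pow, map_pow, S.map_r]; rfl
  rcases hs with rfl | rfl
  · refine ⟨i, mr ^ (j : ℕ), ?_, hj⟩
    fin_cases j
    · exact Or.inl (pow_zero _)
    · exact Or.inr (Or.inr (Or.inl (pow_one _)))
  · refine ⟨i, mr ^ (j : ℕ) * ma, ?_, by rw [hj, mul_assoc, map_mul]; rfl⟩
    fin_cases j
    · exact Or.inr (Or.inl (by simp))
    · exact Or.inr (Or.inr (Or.inr ((congrArg (· * ma) (pow_one mr)).trans cent_a_comm.2.2.2)))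

theorem Shape.four_commute {v : CM} (hv : v = 1 ∨ v = ma ∨ v = mr ∨ v = ma * mr) :
    D.hom v * D.a = D.a * D.hom v ∧ D.hom v * D.hom mr = D.hom mr * D.hom v ∧ Commute (D.hom v) S.y := by
  obtain ⟨ya, yr⟩ := S.y_comm D
  have hv' : v * ma = ma * v ∧ v * mr = mr * v := by
    rcases hv with rfl | rfl | rfl | rfl <;> decide +kernel
  refine ⟨by rw [CentData.a, ← map_mul, ← map_mul, hv'.1], by rw [← map_mul, ← map_mul, hv'.2], ?_⟩
  rcases hv with rfl | rfl | rfl | rfl
  · rw [map_one]; exact Commute.one_left _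
  · exact ya.symm
  · exact yr.symm
  · rw [map_mul]; exact Commute.mul_left (show Commute (D.hom ma) S.y from ya.symm) yr.symm

variable [Finite G]

/-- An element commuting with `y` and one involution of the four-group commutes with `a`. -/
theorem Shape.comm_a (hF : D.Fused) {g : G} (hy : g * S.y = S.y * g) {v : CM}
    (hv : v = ma ∨ v = mr ∨ v = ma * mr) (hgv : g * D.hom v = D.hom v * g) : g * D.a = D.a * g := by
  classical
  have hv1 : v = 1 ∨ v = ma ∨ v = mr ∨ v = ma * mr := Or.inr hv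
  have hlab : lab v = 3 := by
    rcases hv with rfl | rfl | rfl
    · exact lab_facts.2.2.2.2.1
    · exact lab_facts.2.2.2.2.2.1
    · exact lab_facts.2.2.2.2.2.2.1
  obtain ⟨h, hh⟩ := isConj_iff.1 (hF.isConj_a_iff (x := v) (by omega) |>.2 (by simp [hlab])).symm
  have count : ∀ s : Perm (Fin 5), s ^ 3 = 1 → s ≠ 1 →
      Nat.card {x : G // x * D.a = D.a * x ∧ x * S.hom s = S.hom s * x} = 12 := by
    intro s h3 h1
    have h6 := y5_facts.2.2.2.2.2 s h3 h1
    have h12 : Nat.card ({t : Perm (Fin 5) // t * s = s * t} × Bool) = 12 := by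
      rw [Nat.card_prod, Nat.card_eq_fintype_card (α := Bool), Fintype.card_bool,
        Nat.card_eq_fintype_card, Fintype.card_subtype, h6]
    rw [← h12]
    symm
    refine Nat.card_eq_of_bijective (fun p => ⟨S.hom p.1.1 * (bif p.2 then D.a else 1), ?_, ?_⟩) ⟨?_, ?_⟩
    · cases p.2
      · simp [S.comm]
      · simp only [cond_true]; rw [← mul_assoc D.a, ← S.comm]
    · have e : S.hom p.1.1 * S.hom s = S.hom s * S.hom p.1.1 := by rw [← map_mul, ← map_mul, p.1.2]
      cases p.2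
      · simpa using e
      · simp only [cond_true]
        rw [mul_assoc, ← S.comm, ← mul_assoc, e, mul_assoc]
    · rintro ⟨⟨t, ht⟩, b⟩ ⟨⟨u, hu⟩, c⟩ e
      have e' : S.hom t * (bif b then D.a else 1) = S.hom u * (bif c then D.a else 1) :=
        congrArg Subtype.val e
      cases b <;> cases c <;> simp only [cond_true, cond_false, mul_one] at e'
      · exact Prod.ext (Subtype.ext (S.inj e')) rfl
      · exact absurd (show S.hom (u⁻¹ * t) = D.a by rw [map_mul, e', map_inv]; group) (S.ne_a _)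
      · exact absurd (show S.hom (t⁻¹ * u) = D.a by rw [map_mul, ← e', map_inv]; group) (S.ne_a _)
      · exact Prod.ext (Subtype.ext (S.inj (mul_right_cancel e'))) rfl
    · rintro ⟨x, hxa, hxs⟩
      obtain ⟨t, rfl | rfl⟩ := S.cover x hxa
      · exact ⟨(⟨t, S.inj (by rw [map_mul, map_mul, hxs])⟩, false), Subtype.ext (by simp)⟩
      · refine ⟨(⟨t, S.inj ?_⟩, true), rfl⟩
        rw [mul_assoc, ← S.comm s, ← mul_assoc, ← mul_assoc] at hxs
        rw [map_mul, map_mul]
        exact mul_right_cancel hxs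
  have hA : Nat.card {x : G // x * D.a = D.a * x ∧ x * S.y = S.y * x} = 12 :=
    count y5 y5_facts.1 y5_facts.2.1
  have hycomm : h * S.y * h⁻¹ * D.a = D.a * (h * S.y * h⁻¹) := by
    have e : S.y * D.hom v = D.hom v * S.y := (S.four_commute D hv1).2.2.symm
    rw [← hh]
    calc h * S.y * h⁻¹ * (h * D.hom v * h⁻¹) = h * (S.y * D.hom v) * h⁻¹ := by group
      _ = h * D.hom v * h⁻¹ * (h * S.y * h⁻¹) := by rw [e]; group
  obtain ⟨s, hs⟩ := S.cover _ hycomm
  have hys3 : (h * S.y * h⁻¹) ^ 3 = 1 := by rw [conj_pow, S.y_pow_three]; group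
  have hs' : h * S.y * h⁻¹ = S.hom s := by
    rcases hs with e | e
    · exact e
    · exfalso
      rw [e, (show Commute (S.hom s) D.a from S.comm s).mul_pow, ← map_pow, pow_succ D.a, pow_two,
        Shape.a_sq, one_mul] at hys3
      exact S.ne_a (s ^ 3) ((mul_eq_one_iff_eq_inv.1 hys3).trans (inv_eq_of_mul_eq_one_right Shape.a_sq))
  have hs3 : s ^ 3 = 1 := S.inj (by rw [map_pow, ← hs', hys3, map_one])
  have hs1 : s ≠ 1 := fun e => S.y_ne_one D (by
    rw [e, map_one, conj_eq_one_iff] at hs'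
    exact hs')
  have hV : Nat.card {x : G // x * D.hom v = D.hom v * x ∧ x * S.y = S.y * x} = 12 := by
    rw [← card_pair_conj h (D.hom v) S.y, hh, hs']
    exact count s hs3 hs1
  have hsub : ∀ x : G, x * D.a = D.a * x ∧ x * S.y = S.y * x → x * D.hom v = D.hom v * x := by
    rintro x ⟨hxa, hxy⟩
    obtain ⟨i, w, hw, rfl⟩ := S.mem_w D hxa hxy
    refine Commute.eq (Commute.mul_left (((S.four_commute D hv1).2.2.symm).pow_left i) ?_)
    show D.hom w * D.hom v = D.hom v * D.hom w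
    rw [← map_mul, ← map_mul]
    congr 1
    rcases hw with rfl | rfl | rfl | rfl <;> rcases hv with rfl | rfl | rfl <;> decide +kernel
  let f : {x : G // x * D.a = D.a * x ∧ x * S.y = S.y * x} → {x : G // x * D.hom v = D.hom v * x ∧ x * S.y = S.y * x} :=
    fun x => ⟨x.1, hsub x.1 x.2, x.2.2⟩
  obtain ⟨x, hx⟩ := ((Nat.bijective_iff_injective_and_card f).2
    ⟨fun a b e => Subtype.ext (congrArg (fun t => t.1) e), hA.trans hV.symm⟩).2 ⟨g, hgv, hy⟩
  have hx' : x.1 = g := congrArg Subtype.val hx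
  exact hx' ▸ x.2.1

/-- Nine divides the order of the centraliser of `y`. -/
theorem Shape.nine_dvd (hcard : Nat.card G = 95040) :
    9 ∣ Nat.card (Subgroup.centralizer ({S.y} : Set G)) := by
  have : Fact (Nat.Prime 3) := ⟨Nat.prime_three⟩
  have hyo : orderOf S.y = 3 := orderOf_eq_prime S.y_pow_three (S.y_ne_one D)
  obtain ⟨P, hP⟩ := (IsPGroup.of_card (G := Subgroup.zpowers S.y) (p := 3) (n := 1)
    (by rw [Nat.card_zpowers, hyo, pow_one])).exists_le_sylow
  have hyP : S.y ∈ (P : Subgroup G) := hP (Subgroup.mem_zpowers _)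
  have hPc : Nat.card P = 27 := by
    have hf : (95040 : ℕ).factorization 3 = 3 := by
      rw [show (95040 : ℕ) = 3 ^ 3 * 3520 by norm_num, Nat.factorization_mul (by norm_num) (by norm_num),
        Finsupp.add_apply, Nat.Prime.factorization_pow Nat.prime_three, Finsupp.single_eq_same,
        Nat.factorization_eq_zero_of_not_dvd (by norm_num)]
    rw [Sylow.card_eq_multiplicity, hcard, hf]
    norm_num
  set K := (P : Subgroup G) ⊓ Subgroup.centralizer ({S.y} : Set G) with hK
  obtain ⟨n, hn⟩ := (P.2.to_le (inf_le_left : K ≤ (P : Subgroup G))).exists_card_eq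
  have hyK : S.y ∈ K := ⟨hyP, Subgroup.mem_centralizer_singleton_iff.2 rfl⟩
  have h2 : 2 ≤ n := by
    by_contra hlt
    have hle : Nat.card K ≤ 3 := by
      rw [hn]; exact (Nat.pow_le_pow_right (by norm_num) (by omega : n ≤ 1)).trans (by norm_num)
    have hKy : Subgroup.zpowers S.y = K :=
      Subgroup.eq_of_le_of_card_ge (Subgroup.zpowers_le.2 hyK) (by rw [Nat.card_zpowers, hyo]; exact hle)
    have : Nontrivial (P : Subgroup G) := Finite.one_lt_card_iff_nontrivial.1 (by omega)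
    have : Nontrivial (Subgroup.center (P : Subgroup G)) := P.2.center_nontrivial
    obtain ⟨⟨c, hc⟩, hc1⟩ := exists_ne (1 : Subgroup.center (P : Subgroup G))
    have hcK : (c : G) ∈ K := ⟨c.2, Subgroup.mem_centralizer_singleton_iff.2
      (congrArg Subtype.val (Subgroup.mem_center_iff.1 hc ⟨S.y, hyP⟩)).symm⟩
    have hyc : Subgroup.zpowers (c : G) = Subgroup.zpowers S.y := by
      refine Subgroup.eq_of_le_of_card_ge (Subgroup.zpowers_le.2 (hKy ▸ hcK)) ?_
      rw [Nat.card_zpowers, Nat.card_zpowers, hyo]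
      have hd : orderOf (c : G) ∣ 3 := by
        have h := Subgroup.orderOf_dvd_natCard _ (hKy ▸ hcK : (c : G) ∈ Subgroup.zpowers S.y)
        rwa [Nat.card_zpowers, hyo] at h
      rcases (Nat.dvd_prime Nat.prime_three).1 hd with e | e
      · exact absurd (Subtype.ext (Subtype.ext (orderOf_eq_one_iff.1 e))) hc1
      · omega
    have hPK : (P : Subgroup G) ≤ K := by
      refine le_inf le_rfl fun p hp => Subgroup.mem_centralizer_singleton_iff.2 ?_
      obtain ⟨i, hi⟩ := Subgroup.mem_zpowers_iff.1 (hyc ▸ Subgroup.mem_zpowers S.y : S.y ∈ Subgroup.zpowers (c : G))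
      have e : Commute p (c : G) := congrArg Subtype.val (Subgroup.mem_center_iff.1 hc ⟨p, hp⟩)
      rw [← hi]
      exact (e.zpow_right i).eq
    have := Subgroup.card_le_of_le hPK
    omega
  refine dvd_trans ?_ (Subgroup.card_dvd_of_le (inf_le_right : K ≤ Subgroup.centralizer ({S.y} : Set G)))
  rw [hn]
  exact dvd_trans (by norm_num) (pow_dvd_pow 3 h2)

/-- An element of the centraliser of `y` that normalises the four-group without centralising it. -/
theorem Shape.exists_cycle (hF : D.Fused) (hcard : Nat.card G = 95040) :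
    ∃ x : G, x * S.y = S.y * x ∧ x * D.a * x⁻¹ = D.hom mr ∧ x * D.hom mr * x⁻¹ = D.a * D.hom mr := by
  classical
  have : Fact (Nat.Prime 2) := ⟨Nat.prime_two⟩
  obtain ⟨ya, yr⟩ := S.y_comm D
  have haa : D.a * D.a = 1 := Shape.a_sq
  have hrr : D.hom mr * D.hom mr = 1 := by rw [← map_mul, rel_aqrz.2.1, map_one]
  have har : D.hom mr * D.a = D.a * D.hom mr := by rw [CentData.a, ← map_mul, ← map_mul, cent_a_comm.2.2.2]
  set N := Subgroup.centralizer ({S.y} : Set G) with hN
  have memN : ∀ {g : G}, g ∈ N ↔ g * S.y = S.y * g := Subgroup.mem_centralizer_singleton_iff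
  have trio : ∀ g : G, g * S.y = S.y * g →
      g * D.a = D.a * g ∨ g * D.hom mr = D.hom mr * g ∨ g * (D.a * D.hom mr) = D.a * D.hom mr * g →
      g * D.a = D.a * g ∧ g * D.hom mr = D.hom mr * g := by
    intro g hg h
    have ha : g * D.a = D.a * g := by
      rcases h with h | h | h
      · exact h
      · exact S.comm_a D hF hg (Or.inr (Or.inl rfl)) h
      · exact S.comm_a D hF hg (Or.inr (Or.inr rfl)) (by rw [map_mul]; exact h)
    refine ⟨ha, ?_⟩
    obtain ⟨i, w, hw, rfl⟩ := S.mem_w D ha hg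
    exact (Commute.mul_left ((show Commute S.y (D.hom mr) from yr).pow_left i) (S.four_commute D hw).2.1).eq
  let V : Subgroup ↥N :=
    { carrier := {g | ∃ v : CM, (v = 1 ∨ v = ma ∨ v = mr ∨ v = ma * mr) ∧ (g : G) = D.hom v}
      one_mem' := ⟨1, Or.inl rfl, by simp⟩
      mul_mem' := by
        rintro g h ⟨v, hv, hg⟩ ⟨w, hw, hh⟩
        refine ⟨v * w, ?_, by rw [Subgroup.coe_mul, hg, hh, map_mul]⟩
        rcases hv with rfl | rfl | rfl | rfl <;> rcases hw with rfl | rfl | rfl | rfl <;> decide +kernel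
      inv_mem' := by
        rintro g ⟨v, hv, hg⟩
        refine ⟨v, hv, ?_⟩
        rw [Subgroup.coe_inv, hg, ← map_inv]
        congr 1
        rcases hv with rfl | rfl | rfl | rfl <;> decide +kernel }
  let aN : ↥N := ⟨D.a, memN.2 ya.symm⟩
  let rN : ↥N := ⟨D.hom mr, memN.2 yr.symm⟩
  let sN : ↥N := aN * rN
  have hVc : ∀ g : ↥N, g ∈ V → g = 1 ∨ g = aN ∨ g = rN ∨ g = sN := by
    rintro g ⟨v, hv, hg⟩
    rcases hv with rfl | rfl | rfl | rfl
    · exact Or.inl (Subtype.ext (hg.trans (map_one _)))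
    · exact Or.inr (Or.inl (Subtype.ext hg))
    · exact Or.inr (Or.inr (Or.inl (Subtype.ext hg)))
    · exact Or.inr (Or.inr (Or.inr (Subtype.ext (hg.trans (map_mul _ _ _)))))
  have haV : aN ∈ V := ⟨ma, Or.inr (Or.inl rfl), rfl⟩
  have hrV : rN ∈ V := ⟨mr, Or.inr (Or.inr (Or.inl rfl)), rfl⟩
  have hV2 : ∀ g ∈ V, g * g = 1 := by
    rintro g ⟨v, hv, hg⟩
    refine Subtype.ext ?_
    rw [Subgroup.coe_mul, hg, ← map_mul, Subgroup.coe_one]
    rcases hv with rfl | hv
    · rw [one_mul, map_one]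
    · rw [four_labs.2.2.2 v hv, map_one]
  have hVp : IsPGroup 2 ↥V := fun g => ⟨1, Subtype.ext (by
    rw [pow_one, pow_two]; exact hV2 g g.2)⟩
  have hfixV : ∀ g : ↥N, (g * aN = aN * g ∨ g * rN = rN * g ∨ g * sN = sN * g) →
      g * aN = aN * g ∧ g * rN = rN * g ∧
        ∃ (i : ℕ) (w : ↥N), w ∈ V ∧ (g : G) = S.y ^ i * w := by
    intro g h
    have h' := trio g (memN.1 g.2) (h.imp (congrArg Subtype.val) (Or.imp (congrArg Subtype.val) (congrArg Subtype.val)))
    refine ⟨Subtype.ext h'.1, Subtype.ext h'.2, ?_⟩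
    obtain ⟨i, w, hw, hgw⟩ := S.mem_w D h'.1 (memN.1 g.2)
    exact ⟨i, ⟨D.hom w, memN.2 (S.four_commute D hw).2.2.eq⟩, ⟨w, hw, rfl⟩, hgw⟩
  have hne : aN ≠ rN := fun e => rel_aqrz.2.2.2.2.2.2.2.2.2 (D.inj (congrArg Subtype.val e)).symm
  have ha1 : aN ≠ 1 := fun e => CfsgLib.Invol.ne_one_of_invol D.orderOf_a (congrArg Subtype.val e)
  have hr1 : rN ≠ 1 := fun e => rel_aqrz.2.2.2.2.2.2.2.2.1
    (D.inj ((congrArg Subtype.val e).trans (map_one _).symm))
  have hperm : ∀ g : ↥N, (∀ v ∈ V, g * v * g⁻¹ ∈ V) →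
      (g * aN = aN * g ∨ g * rN = rN * g ∨ g * sN = sN * g) ∨
      ((g * aN * g⁻¹ = rN ∧ g * rN * g⁻¹ = sN ∧ g * sN * g⁻¹ = aN) ∨
        (g * aN * g⁻¹ = sN ∧ g * rN * g⁻¹ = aN ∧ g * sN * g⁻¹ = rN)) := by
    intro g hg
    have hp : g * sN * g⁻¹ = (g * aN * g⁻¹) * (g * rN * g⁻¹) := by simp only [sN]; group
    have h1 : g * aN * g⁻¹ ≠ 1 := fun e => ha1 (conj_eq_one_iff.1 e)
    have h2 : g * rN * g⁻¹ ≠ 1 := fun e => hr1 (conj_eq_one_iff.1 e)
    have h3 : g * aN * g⁻¹ ≠ g * rN * g⁻¹ := fun e => hne (mul_left_cancel (mul_right_cancel e))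
    have hsa : aN * rN * aN = rN := Subtype.ext (by
      show D.a * D.hom mr * D.a = D.hom mr
      rw [mul_assoc, har, ← mul_assoc, haa, one_mul])
    rcases hVc _ (hg _ haV) with e | e | e | e
    · exact absurd e h1
    · exact Or.inl (Or.inl (mul_inv_eq_iff_eq_mul.1 e))
    · rcases hVc _ (hg _ hrV) with e' | e' | e' | e'
      · exact absurd e' h2
      · refine Or.inl (Or.inr (Or.inr (mul_inv_eq_iff_eq_mul.1 ?_)))
        rw [hp, e, e']
        exact Subtype.ext har
      · exact absurd (e.trans e'.symm) h3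
      · refine Or.inr (Or.inl ⟨e, e', ?_⟩)
        rw [hp, e, e']
        refine Subtype.ext ?_
        show D.hom mr * (D.a * D.hom mr) = D.a
        rw [← mul_assoc, har, mul_assoc, hrr, mul_one]
    · rcases hVc _ (hg _ hrV) with e' | e' | e' | e'
      · exact absurd e' h2
      · refine Or.inr (Or.inr ⟨e, e', ?_⟩)
        rw [hp, e, e']
        exact hsa
      · exact Or.inl (Or.inr (Or.inl (mul_inv_eq_iff_eq_mul.1 e')))
      · exact absurd (e.trans e'.symm) h3
  have hmaxV : ∀ {P : Subgroup ↥N}, IsPGroup 2 ↥P → V ≤ P → P = V := by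
    intro P hP hle
    by_contra hne'
    have hnil := hP.isNilpotent
    have hsub : V.subgroupOf P < ⊤ := by
      rw [lt_top_iff_ne_top, Ne, Subgroup.subgroupOf_eq_top]
      exact fun h => hne' (le_antisymm h hle)
    obtain ⟨⟨g, hgP⟩, hgN, hgV⟩ :=
      SetLike.exists_of_lt (Group.normalizerCondition_of_isNilpotent (V.subgroupOf P) hsub)
    have hgn : ∀ v ∈ V, g * v * g⁻¹ ∈ V := fun v hv =>
      Subgroup.mem_subgroupOf.1 ((Subgroup.mem_normalizer_iff.1 hgN ⟨v, hle hv⟩).1 (Subgroup.mem_subgroupOf.2 hv))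
    obtain ⟨k, hk⟩ := hP ⟨g, hgP⟩
    have hk' : g ^ 2 ^ k = 1 := congrArg Subtype.val hk
    have hfix : g * aN = aN * g ∨ g * rN = rN * g ∨ g * sN = sN * g := by
      rcases hperm g hgn with h | h
      · exact h
      · exfalso
        have h3 : g ^ 3 * aN = aN * g ^ 3 := by
          refine mul_inv_eq_iff_eq_mul.1 ?_
          rw [show g ^ 3 * aN * (g ^ 3)⁻¹ = g * (g * (g * aN * g⁻¹) * g⁻¹) * g⁻¹ by rw [pow_succ, pow_two]; group]
          rcases h with ⟨e1, e2, e3⟩ | ⟨e1, e2, e3⟩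
          · rw [e1, e2, e3]
          · rw [e1, e3, e2]
        have hg1 : g * aN = aN * g := by
          obtain ⟨m, hm⟩ : ∃ m, g = (g ^ 3) ^ m := by
            have hcop : Nat.Coprime 3 (orderOf g) := Nat.Coprime.coprime_dvd_right
              (orderOf_dvd_of_pow_eq_one hk') (Nat.Coprime.pow_right k (by norm_num))
            obtain ⟨m, hm⟩ := exists_pow_eq_self_of_coprime hcop
            exact ⟨m, hm.symm⟩
          rw [hm]
          exact ((show Commute (g ^ 3) aN from h3).pow_left m).eq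
        rcases h with ⟨e1, -, -⟩ | ⟨e1, -, -⟩
        · rw [hg1, mul_inv_cancel_right] at e1
          exact hne e1
        · rw [hg1, mul_inv_cancel_right] at e1
          exact hr1 (by simpa [sN] using e1)
    obtain ⟨-, -, i, w, hw, hgw⟩ := hfixV g hfix
    have hy1 : S.y ^ i = 1 := by
      obtain ⟨v, -, hv⟩ := id hw
      have hc : Commute (S.y ^ i) (w : G) := by
        have : (w : G) * S.y = S.y * w := memN.1 w.2
        exact (show Commute S.y (w : G) from this.symm).pow_left i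
      have h1 : (S.y ^ i * (w : G)) ^ 2 ^ (k + 1) = 1 := by
        rw [← hgw, pow_succ, pow_mul, ← Subgroup.coe_pow, hk', Subgroup.coe_one, one_pow]
      rw [hc.mul_pow, show (w : G) ^ 2 ^ (k + 1) = 1 by
        rw [pow_succ, mul_comm, pow_mul, pow_two, ← Subgroup.coe_mul, hV2 w hw, Subgroup.coe_one, one_pow],
        mul_one] at h1
      refine odd_order_eq_one (n := k + 1) ?_ (orderOf_dvd_of_pow_eq_one h1)
      refine Odd.of_dvd_nat (show Odd 3 by decide) (orderOf_dvd_of_pow_eq_one ?_)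
      rw [← pow_mul, mul_comm, pow_mul, S.y_pow_three, one_pow]
    have hgw' : g = w := Subtype.ext (by rw [hgw, hy1, one_mul])
    exact hgV (Subgroup.mem_subgroupOf.2 (show g ∈ V from hgw'.symm ▸ hw))
  let P : Sylow 2 ↥N := ⟨V, hVp, fun hQ hle => hmaxV hQ hle⟩
  by_contra hcon
  push Not at hcon
  have hNC : Subgroup.normalizer ((P : Subgroup ↥N) : Set ↥N) ≤ Subgroup.centralizer ((P : Subgroup ↥N) : Set ↥N) := by
    intro g hg
    have hgn : ∀ v ∈ V, g * v * g⁻¹ ∈ V := fun v hv => (Subgroup.mem_normalizer_iff.1 hg v).1 hv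
    rcases hperm g hgn with h | ⟨e1, e2, -⟩ | ⟨e1, e2, e3⟩
    · obtain ⟨ca, cr, -⟩ := hfixV g h
      refine Subgroup.mem_centralizer_iff.2 fun v hv => ?_
      rcases hVc v hv with rfl | rfl | rfl | rfl
      · simp
      · exact ca.symm
      · exact cr.symm
      · exact ((show Commute g aN from ca).mul_right (show Commute g rN from cr)).symm.eq
    · exact absurd (congrArg Subtype.val e2) (hcon g (memN.1 g.2) (congrArg Subtype.val e1))
    · exfalso
      have f1 : g⁻¹ * aN * g⁻¹⁻¹ = rN := by rw [← e2]; group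
      have f2 : g⁻¹ * rN * g⁻¹⁻¹ = sN := by rw [← e3]; group
      exact hcon _ (memN.1 (g⁻¹).2) (congrArg Subtype.val f1) (congrArg Subtype.val f2)
  set K := (MonoidHom.transferSylow P hNC).ker with hK
  have hcompl := MonoidHom.ker_transferSylow_isComplement' P hNC
  have hPc : Nat.card (P : Subgroup ↥N) ≤ 4 := by
    let f : Fin 4 → ↥(P : Subgroup ↥N) := ![1, ⟨aN, haV⟩, ⟨rN, hrV⟩, ⟨sN, V.mul_mem haV hrV⟩]
    have hf : Function.Surjective f := by
      rintro ⟨g, hg⟩
      rcases hVc g hg with rfl | rfl | rfl | rfl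
      exacts [⟨0, rfl⟩, ⟨1, rfl⟩, ⟨2, rfl⟩, ⟨3, rfl⟩]
    exact (Nat.card_le_card_of_surjective f hf).trans (le_of_eq (Nat.card_fin 4))
  have hKodd : Odd (Nat.card K) := by
    have h1 := P.not_dvd_index
    rw [hcompl.index_eq_card] at h1
    exact Nat.odd_iff.2 (by rw [hK]; omega)
  haveI hKn : K.Normal := MonoidHom.normal_ker _
  set Y : Subgroup G := Subgroup.zpowers S.y with hY
  have hYc : ∀ y' ∈ Y, ∀ g : ↥N, (g : G) * y' = y' * g := by
    intro y' hy' g
    obtain ⟨i, rfl⟩ := Subgroup.mem_zpowers_iff.1 hy'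
    exact ((show Commute (g : G) S.y from memN.1 g.2).zpow_right i).eq
  have hodd : ∀ k ∈ K, Odd (orderOf k) := fun k hk => Odd.of_dvd_nat hKodd (Subgroup.orderOf_dvd_natCard _ hk)
  have hfixK : ∀ v : ↥N, (v = aN ∨ v = rN ∨ v = sN) → ∀ k ∈ K, k * v = v * k → (k : G) ∈ Y := by
    intro v hv k hk hkv
    obtain ⟨-, -, i, w, hw, hkw⟩ := hfixV k (by
      rcases hv with rfl | rfl | rfl
      exacts [Or.inl hkv, Or.inr (Or.inl hkv), Or.inr (Or.inr hkv)])
    have hwK : w ∈ K ↔ (⟨S.y ^ i, memN.2 ((Commute.refl S.y).pow_left i).eq⟩ : ↥N) ∈ K := by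
      have : k = ⟨S.y ^ i, memN.2 ((Commute.refl S.y).pow_left i).eq⟩ * w := Subtype.ext hkw
      rw [this] at hk
      exact ⟨fun h => (K.mul_mem_cancel_right h).1 hk, fun h => (K.mul_mem_cancel_left h).1 hk⟩
    have hyK : (⟨S.y ^ i, memN.2 ((Commute.refl S.y).pow_left i).eq⟩ : ↥N) ∈ K := by
      rw [hK, MonoidHom.mem_ker]
      set q := MonoidHom.transferSylow P hNC ⟨S.y ^ i, memN.2 ((Commute.refl S.y).pow_left i).eq⟩
      have h2 : q * q = 1 := Subtype.ext (hV2 _ q.2)
      have h3 : q ^ 3 = 1 := by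
        rw [← map_pow, show (⟨S.y ^ i, memN.2 ((Commute.refl S.y).pow_left i).eq⟩ : ↥N) ^ 3 = 1 from
          Subtype.ext (by rw [Subgroup.coe_pow, ← pow_mul, mul_comm, pow_mul, S.y_pow_three, one_pow,
            Subgroup.coe_one]), map_one]
      rw [pow_succ, pow_two, h2, one_mul] at h3
      exact h3
    have hw1 : w = 1 := Subgroup.mem_bot.1 (hcompl.disjoint.le_bot ⟨hwK.2 hyK, hw⟩)
    rw [hkw, hw1, Subgroup.coe_one, mul_one]
    exact Subgroup.npow_mem_zpowers _ _
  have hdec : ∀ v : ↥N, (v = aN ∨ v = rN ∨ v = sN) → ∀ k ∈ K,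
      ∃ i ∈ K, ∃ f : G, f ∈ Y ∧ (k : G) = f * i ∧ v * i * v = i⁻¹ := by
    intro v hv k hk
    have hv2 : v * v = 1 := hV2 v (by
      rcases hv with rfl | rfl | rfl
      exacts [haV, hrV, V.mul_mem haV hrV])
    have hvi : v⁻¹ = v := inv_eq_of_mul_eq_one_right hv2
    set d := k⁻¹ * (v * k * v) with hd
    have hdK : d ∈ K := K.mul_mem (K.inv_mem hk) (by
      have := hKn.conj_mem k hk v
      rwa [hvi] at this)
    have hdv : v * d * v = d⁻¹ := by
      rw [hd, mul_inv_rev, inv_inv, mul_inv_rev, mul_inv_rev, hvi]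
      calc v * (k⁻¹ * (v * k * v)) * v = v * k⁻¹ * v * k * (v * v) := by group
        _ = v * (k⁻¹ * v) * k := by rw [hv2]; group
    obtain ⟨m, hm⟩ := hodd d hdK
    set i := d ^ m with hi
    have hiv : v * i * v = i⁻¹ := by
      have := conj_pow (i := m) (a := v) (b := d)
      rw [hvi, hdv, inv_pow] at this
      exact this.symm
    refine ⟨i, K.pow_mem hdK _, ((k * i⁻¹ : ↥N) : G), ?_, by simp, hiv⟩
    refine hfixK v hv _ (K.mul_mem hk (K.inv_mem (K.pow_mem hdK _))) ?_
    have h1 : v * (k * i⁻¹) * v = k * i⁻¹ := by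
      calc v * (k * i⁻¹) * v = v * k * v * (v * i * v)⁻¹ := by
            rw [mul_inv_rev, mul_inv_rev, hvi]
            calc v * (k * i⁻¹) * v = v * k * 1 * i⁻¹ * v := by group
              _ = v * k * (v * v) * i⁻¹ * v := by rw [hv2]
              _ = _ := by group
        _ = k * d * i := by rw [hiv, inv_inv, hd, mul_inv_cancel_left]
        _ = k * i⁻¹ := by
          rw [mul_assoc]
          congr 1
          rw [eq_inv_iff_mul_eq_one, hi, mul_assoc, ← pow_add, ← pow_succ', ← two_mul, ← hm, pow_orderOf_eq_one]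
    calc k * i⁻¹ * v = v * v * (k * i⁻¹ * v) := by rw [hv2, one_mul]
      _ = v * (v * (k * i⁻¹) * v) := by group
      _ = v * (k * i⁻¹) := by rw [h1]
  have hKY : ∀ k ∈ K, (k : G) ∈ Y := by
    intro k hk
    obtain ⟨i, hi, f, hf, hkf, hiv⟩ := hdec sN (Or.inr (Or.inr rfl)) k hk
    rw [hkf]
    refine Y.mul_mem hf ?_
    obtain ⟨i1, -, f1, hf1, hif1, hi1⟩ := hdec aN (Or.inl rfl) i hi
    obtain ⟨i2, -, f2, hf2, hif2, hi2⟩ := hdec rN (Or.inr (Or.inl rfl)) i hi
    have conjI : ∀ (v : ↥N) (f : G) (j : ↥N), f ∈ Y → (v * v = 1) → (i : G) = f * j → v * j * v = j⁻¹ →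
        (v : G) * i * v = f * f * (i : G)⁻¹ := by
      intro v f j hf hv hij hj
      have e : (v : G) * j * v = (j : G)⁻¹ := congrArg Subtype.val hj
      have hjf : (j : G)⁻¹ * f = f * (j : G)⁻¹ := by simpa using hYc f hf j⁻¹
      rw [hij, mul_inv_rev]
      calc (v : G) * (f * j) * v = f * ((v : G) * j * v) := by
            rw [← mul_assoc, hYc f hf v]; group
        _ = f * (f * f⁻¹) * (j : G)⁻¹ := by rw [e, mul_inv_cancel, mul_one]
        _ = f * f * ((j : G)⁻¹ * f⁻¹) := by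
            rw [show (j : G)⁻¹ * f⁻¹ = f⁻¹ * (j : G)⁻¹ from by
              rw [← mul_inv_rev, ← mul_inv_rev, hYc f hf j]]
            group
    have ea := conjI aN f1 i1 hf1 (hV2 _ haV) hif1 hi1
    have er := conjI rN f2 i2 hf2 (hV2 _ hrV) hif2 hi2
    have es : D.a * D.hom mr * (i : G) * (D.a * D.hom mr) = (i : G)⁻¹ := congrArg Subtype.val hiv
    have hff : f2 * f2 ∈ Y := Y.mul_mem hf2 hf2
    have ea' : D.a * (i : G)⁻¹ * D.a = (f1 * f1 * (i : G)⁻¹)⁻¹ := by
      rw [← ea]
      show D.a * (i : G)⁻¹ * D.a = (D.a * (i : G) * D.a)⁻¹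
      rw [mul_inv_rev, mul_inv_rev, inv_eq_of_mul_eq_one_right haa]; group
    have hprod : (i : G)⁻¹ = f2 * f2 * ((i : G) * (f1 * f1)⁻¹) := by
      calc (i : G)⁻¹ = D.a * D.hom mr * (i : G) * (D.a * D.hom mr) := es.symm
        _ = D.a * (D.hom mr * (i : G) * D.hom mr) * D.a := by
            rw [show D.a * D.hom mr * (i : G) * (D.a * D.hom mr) =
              D.a * (D.hom mr * (i : G)) * (D.a * D.hom mr) by group, ← har]
            group
        _ = D.a * (f2 * f2 * (i : G)⁻¹) * D.a := by rw [show D.hom mr * (i : G) * D.hom mr = _ from er]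
        _ = f2 * f2 * (D.a * (i : G)⁻¹ * D.a) := by
            rw [← mul_assoc D.a, (show D.a * (f2 * f2) = f2 * f2 * D.a from hYc _ hff aN)]; group
        _ = f2 * f2 * ((i : G) * (f1 * f1)⁻¹) := by rw [ea', mul_inv_rev, inv_inv]
    have hi2Y : (i : G) * (i : G) ∈ Y := by
      have hc : (i : G) * (f2 * f2) = f2 * f2 * i := hYc _ hff i
      have h1 : (1 : G) = f2 * f2 * ((i : G) * i) * (f1 * f1)⁻¹ := by
        calc (1 : G) = (i : G) * (i : G)⁻¹ := (mul_inv_cancel _).symm
          _ = (i : G) * (f2 * f2 * ((i : G) * (f1 * f1)⁻¹)) := congrArg _ hprod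
          _ = (i : G) * (f2 * f2) * (i : G) * (f1 * f1)⁻¹ := by group
          _ = _ := by rw [hc]; group
      have : (i : G) * i = (f2 * f2)⁻¹ * (f1 * f1) := by
        rw [eq_inv_mul_iff_mul_eq, ← mul_inv_eq_one]
        exact h1.symm
      rw [this]
      exact Y.mul_mem (Y.inv_mem hff) (Y.mul_mem hf1 hf1)
    obtain ⟨m, hm⟩ := hodd i hi
    have : (i : G) = ((i : G) * i) ^ (m + 1) := by
      rw [← pow_two, ← pow_mul, show 2 * (m + 1) = orderOf i + 1 by omega, pow_succ, ← Subgroup.coe_pow,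
        pow_orderOf_eq_one, Subgroup.coe_one, one_mul]
    rw [this]
    exact Y.pow_mem hi2Y _
  have hle : Nat.card K ≤ 3 := by
    have h3 : Nat.card ↥Y = 3 := by
      rw [hY, Nat.card_zpowers, orderOf_eq_prime S.y_pow_three (S.y_ne_one D)]
    rw [← h3]
    exact Nat.card_le_card_of_injective (fun k : ↥K => (⟨((k : ↥N) : G), hKY k k.2⟩ : ↥Y))
      fun k k' e => Subtype.ext (Subtype.ext (congrArg (fun t : ↥Y => (t : G)) e))
  have h9 := S.nine_dvd D hcard
  have hmul : Nat.card ↥K * Nat.card ↥(P : Subgroup ↥N) = Nat.card ↥N := hcompl.card_mul_card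
  rw [← hmul] at h9
  obtain ⟨n, hn⟩ := (show IsPGroup 2 ↥(P : Subgroup ↥N) from P.2).exists_card_eq
  rw [hn] at h9
  have h9' : 9 ∣ Nat.card K :=
    (Nat.Coprime.dvd_mul_right (Nat.Coprime.pow_right n (by norm_num : Nat.Coprime 9 2))).1 h9
  exact absurd ((Nat.le_of_dvd Nat.card_pos h9').trans hle) (by norm_num)

/-- The element `mx` commutes with `y`. -/
theorem Shape.commute_x (hF : D.Fused) (hcard : Nat.card G = 95040) :
    D.hom mx * S.y = S.y * D.hom mx := by
  obtain ⟨x, hxy, hxa, hxr⟩ := S.exists_cycle D hF hcard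
  obtain ⟨ya, yr⟩ := S.y_comm D
  have hzz : D.z * D.z = 1 := CfsgLib.Invol.mul_self_eq_one D.orderOf_z
  have hzi : D.z⁻¹ = D.z := inv_eq_of_mul_eq_one_right hzz
  have hzy : D.z * S.y = S.y⁻¹ * D.z := mul_inv_eq_iff_eq_mul.1 (S.z_inv_y D)
  have hza : D.a * D.z = D.z * D.a := D.comm_z ma
  have hzr : D.hom mr * D.z = D.z * D.hom mr := D.comm_z mr
  -- the image of `x`
  set w := x⁻¹ * (D.z * x * D.z) with hw
  have hwy : w * S.y = S.y * w := by
    have h1 : x * S.y⁻¹ = S.y⁻¹ * x := ((show Commute x S.y from hxy).inv_right).eq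
    have h2 : x⁻¹ * S.y = S.y * x⁻¹ := ((show Commute x S.y from hxy).inv_left).eq
    have hzy' : D.z * S.y⁻¹ = S.y * D.z := by
      calc D.z * S.y⁻¹ = D.z * (S.y⁻¹ * D.z) * D.z := by rw [mul_assoc D.z, mul_assoc S.y⁻¹, hzz, mul_one]
        _ = D.z * (D.z * S.y) * D.z := by rw [hzy]
        _ = S.y * D.z := by rw [← mul_assoc D.z, hzz, one_mul]
    calc w * S.y = x⁻¹ * D.z * x * (D.z * S.y) := by rw [hw]; group
      _ = x⁻¹ * D.z * (x * S.y⁻¹) * D.z := by rw [hzy]; group
      _ = x⁻¹ * (D.z * S.y⁻¹) * x * D.z := by rw [h1]; group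
      _ = (x⁻¹ * S.y) * D.z * x * D.z := by rw [hzy']; group
      _ = S.y * w := by rw [h2, hw]; group
  have hwa : w * D.a = D.a * w := by
    have h1 : x * D.a = D.hom mr * x := mul_inv_eq_iff_eq_mul.1 hxa
    have h2 : x⁻¹ * D.hom mr = D.a * x⁻¹ := by rw [← hxa]; group
    calc w * D.a = x⁻¹ * D.z * x * (D.z * D.a) := by rw [hw]; group
      _ = x⁻¹ * D.z * (x * D.a) * D.z := by rw [← hza]; group
      _ = x⁻¹ * (D.z * D.hom mr) * x * D.z := by rw [h1]; group
      _ = (x⁻¹ * D.hom mr) * D.z * x * D.z := by rw [← hzr]; group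
      _ = D.a * w := by rw [h2, hw]; group
  obtain ⟨i, v0, hv0, hwi⟩ := S.mem_w D hwa hwy
  -- absorb the power of `y`
  obtain ⟨x2, hx2⟩ : ∃ x2, x2 = x * S.y ^ (2 * i) := ⟨_, rfl⟩
  have cY : Commute x (S.y ^ (2 * i)) := (show Commute x S.y from hxy).pow_right _
  have hx2y : x2 * S.y = S.y * x2 := hx2 ▸ (Commute.mul_left (show Commute x S.y from hxy) ((Commute.refl S.y).pow_left _)).eq
  have hx2a : x2 * D.a * x2⁻¹ = D.hom mr := by
    have e : S.y ^ (2 * i) * D.a = D.a * S.y ^ (2 * i) := ((show Commute S.y D.a from ya).pow_left _).eq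
    rw [hx2, mul_assoc x, e, ← hxa]; group
  have hx2r : x2 * D.hom mr * x2⁻¹ = D.a * D.hom mr := by
    have e : S.y ^ (2 * i) * D.hom mr = D.hom mr * S.y ^ (2 * i) := ((show Commute S.y (D.hom mr) from yr).pow_left _).eq
    rw [hx2, mul_assoc x, e, ← hxr]; group
  have hzx : D.z * x * D.z = x * (S.y ^ i * D.hom v0) := by rw [← hwi, hw]; group
  have hzyp : ∀ n : ℕ, D.z * S.y ^ n * D.z = (S.y ^ n)⁻¹ := fun n => by
    have := conj_pow (i := n) (a := D.z) (b := S.y)
    rw [S.z_inv_y D, inv_pow] at this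
    conv_lhs => arg 2; rw [← hzi]
    exact this.symm
  have hz2 : D.z * x2 * D.z = x2 * D.hom v0 := by
    have c1 : Commute (D.hom v0) (S.y ^ (2 * i)) := (S.four_commute D hv0).2.2.pow_right _
    calc D.z * x2 * D.z = (D.z * x * D.z) * (D.z * S.y ^ (2 * i) * D.z) := by
          rw [hx2]
          calc D.z * (x * S.y ^ (2 * i)) * D.z = D.z * x * 1 * S.y ^ (2 * i) * D.z := by group
            _ = D.z * x * (D.z * D.z) * S.y ^ (2 * i) * D.z := by rw [hzz]
            _ = _ := by group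
      _ = x * (S.y ^ i * D.hom v0) * (S.y ^ (2 * i))⁻¹ := by rw [hzx, hzyp]
      _ = x * (S.y ^ i * (S.y ^ (2 * i))⁻¹) * D.hom v0 := by
          rw [mul_assoc x, mul_assoc (S.y ^ i), c1.inv_right.eq]; group
      _ = x2 * D.hom v0 := by
          rw [hx2]
          congr 2
          rw [mul_inv_eq_iff_eq_mul, ← pow_add, show 2 * i + 2 * i = i + 3 * i by omega, pow_add,
            pow_mul, S.y_pow_three, one_pow, mul_one]
  -- the twist
  have haa : D.a * D.a = 1 := Shape.a_sq
  have hrr : D.hom mr * D.hom mr = 1 := by rw [← map_mul, rel_aqrz.2.1, map_one]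
  have har : D.hom mr * D.a = D.a * D.hom mr := by rw [CentData.a, ← map_mul, ← map_mul, cent_a_comm.2.2.2]
  obtain ⟨v, hv, hvx⟩ : ∃ v : CM, (v = 1 ∨ v = ma ∨ v = mr ∨ v = ma * mr) ∧
      D.hom v * (x2 * D.hom v0) * D.hom v = x2 := by
    have e1 : D.a * x2 = x2 * (D.a * D.hom mr) := by
      calc D.a * x2 = D.a * (D.hom mr * D.hom mr) * x2 := by rw [hrr, mul_one]
        _ = (D.a * D.hom mr) * D.hom mr * x2 := by group
        _ = (x2 * D.hom mr * x2⁻¹) * (x2 * D.a * x2⁻¹) * x2 := by rw [hx2r, hx2a]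
        _ = x2 * (D.hom mr * D.a) := by group
        _ = x2 * (D.a * D.hom mr) := by rw [har]
    have e2 : D.hom mr * x2 = x2 * D.a := (mul_inv_eq_iff_eq_mul.1 hx2a).symm
    rcases hv0 with rfl | rfl | rfl | rfl
    · exact ⟨1, Or.inl rfl, by simp⟩
    · refine ⟨ma * mr, Or.inr (Or.inr (Or.inr rfl)), ?_⟩
      rw [map_mul]
      calc D.a * D.hom mr * (x2 * D.hom ma) * (D.a * D.hom mr)
          = D.a * (D.hom mr * x2) * (D.a * D.a) * D.hom mr := by rw [CentData.a]; group
        _ = D.a * x2 * (D.a * D.hom mr) := by rw [haa, e2]; group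
        _ = x2 * ((D.a * D.hom mr) * (D.a * D.hom mr)) := by rw [e1]; group
        _ = x2 := by
            rw [show D.a * D.hom mr * (D.a * D.hom mr) = 1 by
              rw [mul_assoc, ← mul_assoc (D.hom mr), har, mul_assoc D.a, hrr, mul_one, haa], mul_one]
    · refine ⟨ma, Or.inr (Or.inl rfl), ?_⟩
      calc D.a * (x2 * D.hom mr) * D.a = D.a * x2 * (D.hom mr * D.a) := by group
        _ = x2 * ((D.a * D.hom mr) * (D.a * D.hom mr)) := by rw [har, e1]; group
        _ = x2 := by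
            rw [show D.a * D.hom mr * (D.a * D.hom mr) = 1 by
              rw [mul_assoc, ← mul_assoc (D.hom mr), har, mul_assoc D.a, hrr, mul_one, haa], mul_one]
    · refine ⟨mr, Or.inr (Or.inr (Or.inl rfl)), ?_⟩
      rw [map_mul]
      calc D.hom mr * (x2 * (D.hom ma * D.hom mr)) * D.hom mr
          = D.hom mr * x2 * D.a * (D.hom mr * D.hom mr) := by rw [CentData.a]; group
        _ = x2 := by rw [hrr, mul_one, e2, mul_assoc, haa, mul_one]
  set z' := D.hom (mz * v) with hz'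
  have hv2 : v * v = 1 := by
    rcases hv with rfl | hv
    · rw [one_mul]
    · exact four_labs.2.2.2 v hv
  have hvz : D.hom v * D.z = D.z * D.hom v := D.comm_z v
  have hz'2 : z' * z' = 1 := by
    rw [hz', ← map_mul, mul_assoc, ← mul_assoc v, mz_central, mul_assoc mz, hv2, mul_one,
      rel_aqrz.2.2.2.1, map_one]
  have hfix : z' * x2 = x2 * z' := by
    have h1 : z' * x2 * z' = x2 := by
      rw [hz', map_mul]
      calc D.z * D.hom v * x2 * (D.z * D.hom v) = D.hom v * (D.z * x2 * D.z) * D.hom v := by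
            rw [show D.z * D.hom v * x2 = D.hom v * D.z * x2 by rw [hvz]]; group
        _ = x2 := by rw [hz2]; exact hvx
    calc z' * x2 = z' * x2 * (z' * z') := by rw [hz'2, mul_one]
      _ = (z' * x2 * z') * z' := by group
      _ = x2 * z' := by rw [h1]
  have hv1 : v = 1 := by
    by_contra hne
    have hv3 : v = ma ∨ v = mr ∨ v = ma * mr := hv.resolve_left hne
    have hl3 : lab (mz * v) = 3 := by
      rcases hv3 with rfl | rfl | rfl
      exacts [four_labs.1, four_labs.2.1, four_labs.2.2.1]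
    obtain ⟨h, hh⟩ := isConj_iff.1 (D.isConj_a_three hl3).symm
    have hcomm : ∀ t : G, t * z' = z' * t → h * t * h⁻¹ * D.a = D.a * (h * t * h⁻¹) := fun t ht => by
      rw [← hh]
      calc h * t * h⁻¹ * (h * z' * h⁻¹) = h * (t * z') * h⁻¹ := by group
        _ = h * z' * h⁻¹ * (h * t * h⁻¹) := by rw [ht]; group
    have haz' : D.a * z' = z' * D.a := by
      rw [hz', map_mul]
      show D.a * (D.z * D.hom v) = D.z * D.hom v * D.a
      rw [← mul_assoc, hza, mul_assoc, ← (S.four_commute D hv).1, ← mul_assoc]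
    obtain ⟨s, hs⟩ := S.cover _ (hcomm x2 hfix.symm)
    obtain ⟨t, ht⟩ := S.cover _ (hcomm D.a haz')
    have hcl : h * (D.hom mr * D.a) * h⁻¹ = S.hom (s * t * s⁻¹ * t⁻¹) := by
      have e : D.hom mr * D.a = x2 * D.a * x2⁻¹ * D.a⁻¹ := by rw [hx2a, inv_eq_of_mul_eq_one_right haa]
      have e' : h * (D.hom mr * D.a) * h⁻¹ =
          (h * x2 * h⁻¹) * (h * D.a * h⁻¹) * (h * x2 * h⁻¹)⁻¹ * (h * D.a * h⁻¹)⁻¹ := by rw [e]; group
      rw [e']
      have ca : ∀ u : Perm (Fin 5), Commute (S.hom u) D.a := S.comm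
      simp only [map_mul, map_inv]
      rcases hs with hs | hs <;> rcases ht with ht | ht <;> rw [hs, ht]
      · rw [mul_inv_rev]
        calc S.hom s * (S.hom t * D.a) * (S.hom s)⁻¹ * (D.a⁻¹ * (S.hom t)⁻¹)
            = S.hom s * S.hom t * (D.a * (S.hom s)⁻¹) * D.a⁻¹ * (S.hom t)⁻¹ := by group
          _ = _ := by rw [← (ca s).inv_left.eq]; group
      · rw [mul_inv_rev]
        calc S.hom s * D.a * S.hom t * (D.a⁻¹ * (S.hom s)⁻¹) * (S.hom t)⁻¹
            = S.hom s * (D.a * S.hom t) * D.a⁻¹ * (S.hom s)⁻¹ * (S.hom t)⁻¹ := by group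
          _ = _ := by rw [← (ca t).eq]; group
      · rw [mul_inv_rev, mul_inv_rev]
        calc S.hom s * D.a * (S.hom t * D.a) * (D.a⁻¹ * (S.hom s)⁻¹) * (D.a⁻¹ * (S.hom t)⁻¹)
            = S.hom s * (D.a * S.hom t) * ((S.hom s)⁻¹ * D.a⁻¹) * (S.hom t)⁻¹ := by group
          _ = S.hom s * (S.hom t * D.a) * (D.a⁻¹ * (S.hom s)⁻¹) * (S.hom t)⁻¹ := by
              rw [← (ca t).eq, ((ca s).inv_left.inv_right).eq]
          _ = _ := by group
    have hlab : lab (mr * ma) = 3 := by rw [cent_a_comm.2.2.2]; exact lab_facts.2.2.2.2.2.2.1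
    have ho : orderOf (D.hom (mr * ma)) = 2 := D.orderOf_invol (by omega)
    set u := s * t * s⁻¹ * t⁻¹ with hu
    have hcl' : h * D.hom (mr * ma) * h⁻¹ = S.hom u := by rw [map_mul]; exact hcl
    have ho' : orderOf u = 2 := by
      rw [← orderOf_injective S.hom S.inj, ← hcl', CfsgLib.Invol.orderOf_conj, ho]
    obtain ⟨g', hg'⟩ := even_invol u (CfsgLib.Invol.mul_self_eq_one ho')
      (by
        rw [hu, map_mul, map_mul, map_mul, map_inv, map_inv, mul_comm (Perm.sign s) (Perm.sign t)]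
        group)
      (CfsgLib.Invol.ne_one_of_invol ho')
    refine D.not_three_z hlab ?_
    have hzu : IsConj D.z (S.hom u) := S.map_z ▸ S.isConj_hom ⟨g', hg'⟩
    exact hzu.trans (isConj_iff.2 ⟨h, hcl'⟩).symm
  subst hv1
  rw [hz', mul_one] at hfix
  obtain ⟨c, hc⟩ := D.exists_of_comm (show x2 * D.z = D.z * x2 from hfix.symm)
  have hc3 : c ^ 3 = 1 := by
    refine D.inj ?_
    rw [map_pow, map_one, hc]
    have e3a : x2 ^ 3 * D.a = D.a * x2 ^ 3 := by
      refine mul_inv_eq_iff_eq_mul.1 ?_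
      have e3 : x2 * (D.a * D.hom mr) * x2⁻¹ = D.a := by
        calc x2 * (D.a * D.hom mr) * x2⁻¹ = (x2 * D.a * x2⁻¹) * (x2 * D.hom mr * x2⁻¹) := by group
          _ = D.a := by rw [hx2a, hx2r, ← mul_assoc, har, mul_assoc, hrr, mul_one]
      rw [show x2 ^ 3 * D.a * (x2 ^ 3)⁻¹ = x2 * (x2 * (x2 * D.a * x2⁻¹) * x2⁻¹) * x2⁻¹ by rw [pow_succ, pow_two]; group,
        hx2a, hx2r, e3]
    have e3y : x2 ^ 3 * S.y = S.y * x2 ^ 3 := ((show Commute x2 S.y from hx2y).pow_left 3).eq
    obtain ⟨n, u, hu, hxu⟩ := S.mem_w D e3a e3y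
    have hxx : x2 * x2 ^ 3 = x2 ^ 3 * x2 := ((Commute.refl x2).pow_right 3).eq
    have hu1 : u = 1 := by
      have hc1 : x2 * D.hom u * x2⁻¹ = D.hom u := by
        have h1 : x2 * (S.y ^ n * D.hom u) = S.y ^ n * D.hom u * x2 := by rw [← hxu]; exact hxx
        rw [← mul_assoc, ((show Commute x2 S.y from hx2y).pow_right n).eq, mul_assoc, mul_assoc,
          mul_right_inj] at h1
        rw [h1, mul_inv_cancel_right]
      rcases hu with rfl | rfl | rfl | rfl
      · rfl
      · exfalso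
        rw [show D.hom ma = D.a from rfl, hx2a] at hc1
        exact rel_aqrz.2.2.2.2.2.2.2.2.2 (D.inj hc1)
      · exfalso
        rw [hx2r] at hc1
        exact CfsgLib.Invol.ne_one_of_invol D.orderOf_a (mul_eq_right.1 hc1)
      · exfalso
        rw [map_mul, show D.hom ma = D.a from rfl] at hc1
        have e3 : x2 * (D.a * D.hom mr) * x2⁻¹ = D.a := by
          calc x2 * (D.a * D.hom mr) * x2⁻¹ = (x2 * D.a * x2⁻¹) * (x2 * D.hom mr * x2⁻¹) := by group
            _ = D.a := by rw [hx2a, hx2r, ← mul_assoc, har, mul_assoc, hrr, mul_one]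
        rw [e3] at hc1
        exact rel_aqrz.2.2.2.2.2.2.2.2.1 (D.inj ((mul_eq_left.1 hc1.symm).trans (map_one _).symm))
    rw [hu1, map_one, mul_one] at hxu
    have hzx2 : D.z * x2 ^ 3 = x2 ^ 3 * D.z := ((show Commute D.z x2 from hfix).pow_right 3).eq
    rw [hxu] at hzx2 ⊢
    have h2 := hzyp n
    rw [hzx2, mul_assoc, hzz, mul_one] at h2
    refine odd_order_eq_one (n := 1) (Odd.of_dvd_nat (show Odd 3 by decide)
      (orderOf_dvd_of_pow_eq_one (by rw [← pow_mul, mul_comm, pow_mul, S.y_pow_three, one_pow]))) ?_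
    rw [pow_one]
    exact orderOf_dvd_of_pow_eq_one (by rw [pow_two]; exact mul_eq_one_iff_eq_inv.2 h2)
  have hm := mx_unique c hc3 (D.inj (by rw [map_mul, map_mul, map_inv, hc]; exact hx2a))
    (D.inj (by rw [map_mul, map_mul, map_inv, map_mul, hc]; exact hx2r))
  have hcy : Commute (D.hom c) S.y := hc ▸ hx2y
  rcases hm with e | e | e | e <;> rw [e]
  · exact hcy.eq
  all_goals rw [map_mul]
  · exact (hcy.mul_left (S.four_commute D (Or.inr (Or.inl rfl))).2.2).eq
  · exact (hcy.mul_left (S.four_commute D (Or.inr (Or.inr (Or.inl rfl)))).2.2).eq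
  · exact (hcy.mul_left (S.four_commute D (Or.inr (Or.inr (Or.inr rfl)))).2.2).eq

/-! ### The letters -/

/-- The letters in the group. -/
noncomputable def Shape.let_ (x : ℕ) : G :=
  if x = 0 then S.y else if x = 1 then S.y⁻¹ else D.hom (mlet x)

theorem Shape.prod_onlyC {l : List ℕ} (h : onlyC l = true) :
    (l.map (S.let_ D)).prod = D.hom (l.map mlet).prod := by
  rw [map_list_prod, List.map_map]
  congr 1
  refine List.map_congr_left fun x hx => ?_
  simp only [onlyC, List.all_eq_true, Bool.and_eq_true, Nat.ble_eq, Nat.blt_eq] at h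
  have := h x hx
  rw [Shape.let_, if_neg (by omega), if_neg (by omega)]; rfl

theorem Shape.prod_sub5 {v : ℕ} (hv : v < 8) :
    ((sub5.getD v []).map (S.let_ D)).prod = S.hom (plet v) := by
  obtain ⟨-, -, -, -, -, hC, f2, f3, f4, f5, f6, f7⟩ := word_facts
  rcases (show v = 0 ∨ v = 1 ∨ 2 ≤ v by omega) with rfl | rfl | h2
  · simp [sub5, Shape.let_, plet, Shape.y]
  · simp [sub5, Shape.let_, plet, Shape.y]
  · have hc : onlyC (sub5.getD v []) = true := List.all_eq_true.1 hC v (by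
      have : ∀ w < 8, 2 ≤ w → w ∈ (List.range 8).drop 2 := by decide
      exact this v hv h2)
    rw [S.prod_onlyC D hc]
    interval_cases v
    · rw [f2]; exact S.map_r.symm
    · rw [f3]; simp only [plet]; rw [map_inv, map_inv, S.map_r]
    · rw [f4]; exact S.map_q.symm
    · rw [f5]; simp only [plet]; rw [map_inv, map_inv, S.map_q]
    · rw [f6]; exact S.map_z.symm
    · rw [f7]; simp only [plet]; rw [map_inv, map_inv, S.map_z]; rfl

theorem Shape.prod_flatMap {l : List ℕ} (h : ∀ v ∈ l, v < 8) :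
    ((l.flatMap fun v => sub5.getD v []).map (S.let_ D)).prod = S.hom (l.map plet).prod := by
  induction l with
  | nil => simp
  | cons v l ih =>
    rw [List.flatMap_cons, List.map_append, List.prod_append, List.map_cons, List.prod_cons, map_mul,
      S.prod_sub5 D (h v (List.mem_cons_self ..)), ih fun w hw => h w (List.mem_cons_of_mem _ hw)]

theorem Shape.let_linv (x : ℕ) (hx : x < 16) :
    S.let_ D (CfsgLib.CosetEnum.linv ip x) = (S.let_ D x)⁻¹ := by
  interval_cases x <;> simp [CfsgLib.CosetEnum.linv, ip, Shape.let_, mlet]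

theorem Shape.prod_invWord {l : List ℕ} (h : ∀ x ∈ l, x < 16) :
    ((CfsgLib.CosetEnum.invWord ip l).map (S.let_ D)).prod = ((l.map (S.let_ D)).prod)⁻¹ := by
  rw [CfsgLib.CosetEnum.invWord, List.map_reverse, List.map_map, List.prod_inv_reverse, List.map_map]
  congr 2
  exact List.map_congr_left fun x hx => S.let_linv D x (h x hx)

/-- The image of `mc` under the exchanging element. -/
theorem Shape.exists_candidate (hF : D.Fused) :
    ∃ i : Fin 12, S.hom g5 * D.hom mc * (S.hom g5)⁻¹ = D.hom (nth (dIdx.getD i 0)) := by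
  set g := S.hom g5 with hg
  have gz : g * D.z * g⁻¹ = D.hom mq := by
    rw [hg, ← S.map_z, ← map_inv, ← map_mul, ← map_mul, g5_facts.1, S.map_q]
  have gq : g * D.hom mq * g⁻¹ = D.z := by
    rw [hg, ← S.map_q, ← map_inv, ← map_mul, ← map_mul, g5_facts.2.1, S.map_z]
  have ga : g * D.a * g⁻¹ = D.a := mul_inv_eq_iff_eq_mul.2 (S.comm g5)
  have hcq : mc * mq = mq * mc := by decide +kernel
  have hdz : g * D.hom mc * g⁻¹ * D.z = D.z * (g * D.hom mc * g⁻¹) := by
    rw [← gq]
    calc g * D.hom mc * g⁻¹ * (g * D.hom mq * g⁻¹) = g * D.hom (mc * mq) * g⁻¹ := by rw [map_mul]; group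
      _ = g * D.hom mq * g⁻¹ * (g * D.hom mc * g⁻¹) := by rw [hcq, map_mul]; group
  obtain ⟨d, hd⟩ := D.exists_of_comm hdz
  have hdq : d * mq = mq * d := D.inj (by
    rw [map_mul, map_mul, hd, ← gz]
    have e := D.comm_z mc
    calc g * D.hom mc * g⁻¹ * (g * D.z * g⁻¹) = g * (D.hom mc * D.z) * g⁻¹ := by group
      _ = g * D.z * g⁻¹ * (g * D.hom mc * g⁻¹) := by rw [e]; group)
  have hot : ∀ u w : CM, D.hom w = g * D.hom u * g⁻¹ → ot u = ot w := by
    intro u w hw
    have h1 : u = 1 ↔ w = 1 := by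
      constructor
      · rintro rfl; exact D.inj (by rw [hw, map_one]; group)
      · rintro rfl
        rw [map_one, eq_comm, conj_eq_one_iff] at hw
        exact D.inj (hw.trans (map_one _).symm)
    have hw2 : D.hom (w * w) = g * D.hom (u * u) * g⁻¹ := by rw [map_mul, map_mul, hw]; group
    have h2 : u * u = 1 ↔ w * w = 1 := by
      constructor
      · intro e; rw [e, map_one, mul_one, mul_inv_cancel] at hw2; exact D.inj (hw2.trans (map_one _).symm)
      · intro e
        rw [e, map_one, eq_comm, conj_eq_one_iff] at hw2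
        exact D.inj (hw2.trans (map_one _).symm)
    unfold ot
    by_cases e1 : u = 1
    · rw [if_pos e1, if_pos (h1.1 e1)]
    rw [if_neg e1, if_neg (mt h1.2 e1)]
    by_cases e2 : u * u = 1
    · rw [if_pos e2, if_pos (h2.1 e2)]
      have lu : lab u ≠ 0 := fun e => (lab_eq_zero_iff u).1 e ⟨e2, e1⟩
      have lw : lab w ≠ 0 := fun e => (lab_eq_zero_iff w).1 e ⟨h2.1 e2, mt h1.2 e1⟩
      have hcj : IsConj (D.hom u) (D.hom w) := isConj_iff.2 ⟨g, hw.symm⟩
      have key : lab u = 3 ↔ lab w = 3 := by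
        constructor
        · intro e
          exact List.mem_singleton.1 ((hF.isConj_a_iff lw).1 ((D.isConj_a_three e).trans hcj))
        · intro e
          exact List.mem_singleton.1 ((hF.isConj_a_iff lu).1 ((D.isConj_a_three e).trans hcj.symm))
      by_cases e3 : lab u = 3
      · rw [if_pos e3, if_pos (key.1 e3)]
      · rw [if_neg e3, if_neg (mt key.2 e3)]
    · rw [if_neg e2, if_neg (mt h2.2 e2)]
  have hk : ∀ p ∈ kPairs, D.hom p.2 = g * D.hom p.1 * g⁻¹ := by
    intro p hp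
    simp only [kPairs, List.mem_cons, List.not_mem_nil, or_false] at hp
    have hmul : ∀ u u' w w' : CM, D.hom u' = g * D.hom u * g⁻¹ → D.hom w' = g * D.hom w * g⁻¹ →
        D.hom (u' * w') = g * D.hom (u * w) * g⁻¹ := by
      intro u u' w w' h1 h2; rw [map_mul, map_mul, h1, h2]; group
    have k1 : D.hom mq = g * D.hom mz * g⁻¹ := gz.symm
    have k2 : D.hom mz = g * D.hom mq * g⁻¹ := gq.symm
    have k3 : D.hom ma = g * D.hom ma * g⁻¹ := ga.symm
    have k4 : D.hom (mq * mz) = g * D.hom (mq * mz) * g⁻¹ := by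
      have := hmul _ _ _ _ k2 k1
      rwa [← mz_central mq] at this
    rcases hp with rfl | rfl | rfl | rfl | rfl | rfl | rfl | rfl
    · simp
    exacts [k3, k1, hmul _ _ _ _ k1 k3, k2, hmul _ _ _ _ k2 k3, k4, hmul _ _ _ _ k4 k3]
  obtain ⟨i, hi⟩ := candidates d hdq (fun p hp => by
    have h1 : D.hom (d * p.2) = g * D.hom (mc * p.1) * g⁻¹ := by
      rw [map_mul, map_mul, hd, hk p hp]; group
    refine ⟨hot _ _ h1, hot _ _ ?_⟩
    rw [map_mul, h1, map_mul (f := D.hom) (mc * p.1) (mc * p.1)]; group)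
  exact ⟨i, hi ▸ hd.symm⟩

/-- All relators hold for one of the candidates. -/
theorem Shape.exists_rels (hF : D.Fused) (hcard : Nat.card G = 95040) :
    ∃ i : Fin 12, ∀ l ∈ rels i, (∀ x ∈ l, x < 16) ∧ (l.map (S.let_ D)).prod = 1 := by
  obtain ⟨i, hi⟩ := S.exists_candidate D hF
  obtain ⟨hC, ha, hx, hc, hd, -⟩ := word_facts
  obtain ⟨sY, sS, sG, g8, gi8, r8, gv, giv, hl, hb, -⟩ := word_shapes
  have hlt : ∀ l ∈ rels i, ∀ x ∈ l, x < 8 := fun l hl' x hx' => by
    have := List.all_eq_true.1 (List.all_eq_true.1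
      (List.all_eq_true.1 hb i (List.mem_range.2 i.2)) l hl') x hx'
    simpa [Nat.blt_eq] using this
  refine ⟨i, fun l hl' => ⟨fun x hx' => (hlt l hl' x hx').trans (by norm_num), ?_⟩⟩
  have only16 : ∀ {w : List ℕ}, onlyC w = true → ∀ x ∈ w, x < 16 := by
    intro w hw x hx'
    simp only [onlyC, List.all_eq_true, Bool.and_eq_true, Nat.blt_eq] at hw
    exact (hw x hx').2.trans (by norm_num)
  simp only [rels, List.mem_append, List.mem_singleton] at hl'
  rcases hl' with ((h | h) | h) | rfl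
  · have := List.all_eq_true.1 hC l h
    simp only [Bool.and_eq_true, decide_eq_true_eq] at this
    rw [S.prod_onlyC D this.1, this.2, map_one]
  · have key : ∀ w : List ℕ, onlyC w = true → ∀ m : CM, (w.map mlet).prod = m →
        S.y * D.hom m = D.hom m * S.y → ((commWord [0] w).map (S.let_ D)).prod = 1 := by
      intro w hw m hm hcomm
      rw [commWord, List.map_append, List.map_append, List.map_append, List.prod_append, List.prod_append,
        List.prod_append, S.prod_invWord D (only16 hw), S.prod_invWord D (l := [0]) (by simp),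
        S.prod_onlyC D hw, hm]
      simp only [List.map_cons, List.map_nil, List.prod_cons, List.prod_nil, mul_one, Shape.let_, if_true]
      rw [hcomm]; group
    simp only [Bool.and_eq_true, decide_eq_true_eq] at ha hx
    rw [sY] at h
    simp only [List.mem_cons, List.not_mem_nil, or_false] at h
    rcases h with rfl | rfl
    · exact key _ ha.1 _ ha.2 (S.y_comm D).1
    · exact key _ hx.1 _ hx.2 (S.commute_x D hF hcard).symm
  · rw [sS] at h
    obtain ⟨l', hl'', rfl⟩ := List.mem_map.1 h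
    have := List.all_eq_true.1 r8 l' hl''
    simp only [Bool.and_eq_true, decide_eq_true_eq, List.all_eq_true, Nat.blt_eq] at this
    rw [S.prod_flatMap D this.1, this.2, map_one]
  · have e := List.all_eq_true.1 sG i (List.mem_range.2 i.2)
    have d' := List.all_eq_true.1 hd i (List.mem_range.2 i.2)
    simp only [Bool.and_eq_true, decide_eq_true_eq] at e d' hc
    simp only [List.all_eq_true, Nat.blt_eq] at g8 gi8
    rw [e, List.map_append, List.map_append, List.map_append, List.prod_append, List.prod_append,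
      List.prod_append, S.prod_flatMap D g8, S.prod_flatMap D gi8, S.prod_onlyC D hc.1,
      S.prod_invWord D (only16 d'.1), S.prod_onlyC D d'.1, hc.2, d'.2, gv, giv, map_inv, hi, mul_inv_cancel]

end CfsgLib.M12Recog
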