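import Cfsg.Agent.Lib.M12Recog.Setup
import Cfsg.Agent.Lib.Invol.DihedralEightIndexTwo
import Mathlib.GroupTheory.FixedPointFree
import Mathlib.GroupTheory.SpecificGroups.Alternating

/-!
The centraliser of an involution of the second class: `T`, or twice `S₄` or `S₅`.
-/

set_option autoImplicit false
set_option maxRecDepth 100000

namespace CfsgLib.M12Recog

open Equiv DihedralGroup

/-- The dihedral group of order 8 spanned by two elements. -/
noncomputable def dihF (u v : CM) : DihedralGroup 4 → CM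
  | r i => (v * u) ^ i.val
  | sr i => u * (v * u) ^ i.val

/-- The choices of generators of a complement. -/
def choices : List (Bool × Bool) := [(false, false), (false, true), (true, false), (true, true)]

/-- The first generator. -/
noncomputable def uOf (e : Bool) : CM := bif e then ma * mr else mr

/-- The second generator. -/
noncomputable def vOf (f : Bool) : CM := bif f then mq * ma else mq

theorem dih_facts : ∀ p ∈ choices,
    (∀ i j : DihedralGroup 4, dihF (uOf p.1) (vOf p.2) (i * j) =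
      dihF (uOf p.1) (vOf p.2) i * dihF (uOf p.1) (vOf p.2) j) ∧
    (∀ i j : DihedralGroup 4, dihF (uOf p.1) (vOf p.2) i = dihF (uOf p.1) (vOf p.2) j → i = j) ∧
    (∀ i : DihedralGroup 4, dihF (uOf p.1) (vOf p.2) i ≠ ma ∧
      dihF (uOf p.1) (vOf p.2) i * ma = ma * dihF (uOf p.1) (vOf p.2) i) ∧
    (∀ x : CM, x * ma = ma * x →
      ∃ i : DihedralGroup 4, x = dihF (uOf p.1) (vOf p.2) i ∨ x = dihF (uOf p.1) (vOf p.2) i * ma) := by
  decide +kernel

theorem uv_facts : ∀ p ∈ choices,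
    uOf p.1 * uOf p.1 = 1 ∧ vOf p.2 * vOf p.2 = 1 ∧ vOf p.2 * mz = mz * vOf p.2 ∧
      vOf p.2 * uOf p.1 * (vOf p.2 * uOf p.1) = mz ∧ uOf p.1 * ma = ma * uOf p.1 ∧
      vOf p.2 * ma = ma * vOf p.2 ∧ lab (uOf p.1) = 3 ∧ lab (uOf p.1 * ma) = 3 := by
  decide +kernel

theorem lab_qa : lab (vOf true) = 3 ∧ lab (mq * mz) = 2 := by decide +kernel

/-- The subgroup of order 8 fixed by the transfer that isolates `ma`. -/
noncomputable def mQa : Subgroup CM where
  carrier := {x | ∃ i, dihF (uOf false) (vOf false) i = x}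
  mul_mem' := by
    rintro _ _ ⟨i, rfl⟩ ⟨j, rfl⟩
    exact ⟨i * j, (dih_facts (false, false) (by decide)).1 i j⟩
  one_mem' := ⟨1, by decide +kernel⟩
  inv_mem' := by
    rintro _ ⟨i, rfl⟩
    refine ⟨i⁻¹, eq_inv_of_mul_eq_one_left ?_⟩
    rw [← (dih_facts (false, false) (by decide)).1, inv_mul_cancel]
    decide +kernel

theorem card_mQa : Nat.card mQa = 8 := by
  have h : Nat.card (DihedralGroup 4) = 8 := by rw [DihedralGroup.nat_card]
  rw [← h]
  symm
  refine Nat.card_eq_of_bijective (fun i => ⟨dihF (uOf false) (vOf false) i, i, rfl⟩) ⟨?_, ?_⟩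
  · intro i j e
    exact (dih_facts (false, false) (by decide)).2.1 i j (congrArg Subtype.val e)
  · rintro ⟨_, i, rfl⟩
    exact ⟨i, rfl⟩

/-- The subgroup of order 8 used to split the complement. -/
noncomputable def mQr : Subgroup CM := mT ⊓ Subgroup.centralizer ({mq} : Set CM)

theorem mem_mQr {x : CM} : x ∈ mQr ↔ x * ma = ma * x ∧ x * mq = mq * x := by
  rw [mQr, Subgroup.mem_inf, mem_mT, Subgroup.mem_centralizer_singleton_iff]

theorem mQr_facts : (∀ x : CM, x * ma = ma * x ∧ x * mq = mq * x → lab x = 3 → x = ma ∨ lab (x * ma) ≠ 3) ∧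
    (Finset.univ.filter fun x : CM => x * ma = ma * x ∧ x * mq = mq * x).card = 8 := by
  decide +kernel

theorem card_mQr : Nat.card mQr = 8 := by
  rw [← mQr_facts.2]
  exact (Nat.card_congr (Equiv.subtypeEquivRight fun x => mem_mQr)).trans
    ((Nat.card_eq_fintype_card).trans (Fintype.card_subtype _))

variable {G : Type*} [Group G] (D : CentData G)

/-- The involution of the second class. -/
noncomputable def CentData.a : G := D.hom ma

abbrev CentData.XA : Subgroup G := Subgroup.centralizer ({D.a} : Set G)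

theorem CentData.mem_cent_a {g : G} :
    g ∈ Subgroup.centralizer ({D.a} : Set G) ↔ g * D.a = D.a * g :=
  Subgroup.mem_centralizer_singleton_iff

theorem CentData.hom_mem_cent_a {x : CM} (h : x * ma = ma * x) :
    D.hom x ∈ Subgroup.centralizer ({D.a} : Set G) :=
  D.mem_cent_a.2 (by rw [CentData.a, ← map_mul, ← map_mul, h])

section Finite

variable [Finite G]

theorem CentData.exists_sylow_cent_a : ∃ P : Sylow 2 ↥(Subgroup.centralizer ({D.a} : Set G)),
    (P : Subgroup ↥(Subgroup.centralizer ({D.a} : Set G))) = (mT.map D.hom).subgroupOf _ := by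
  have : Fact (Nat.Prime 2) := ⟨Nat.prime_two⟩
  set X := Subgroup.centralizer ({D.a} : Set G)
  have hTX : mT.map D.hom ≤ X := by
    rintro _ ⟨x, hx, rfl⟩
    exact D.hom_mem_cent_a (mem_mT.1 hx)
  have hTp : IsPGroup 2 ↥(mT.map D.hom) := IsPGroup.of_card (n := 4) (by
    rw [D.card_map, card_mT]; norm_num)
  obtain ⟨P, hP⟩ := (hTp.comap_subtype (K := X)).exists_le_sylow
  have hle : mT.map D.hom ≤ (P : Subgroup X).map X.subtype := fun x hx => ⟨⟨x, hTX hx⟩, hP hx, rfl⟩
  have h := D.T_maximal (P.2.map X.subtype) hle (Subgroup.map_subtype_le _)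
  refine ⟨P, ?_⟩
  ext x
  rw [Subgroup.mem_subgroupOf, ← h]
  exact (Subgroup.mem_map_iff_mem X.subtype_injective).symm

/-- The transfer in the centraliser. -/
theorem CentData.exists_index_two (Qc : Subgroup CM) (hQT : Qc ≤ mT) (hQ8 : Nat.card Qc = 8) (u : CM)
    (hu : u * u = 1) (huT : u * ma = ma * u)
    (hno : ∀ g : G, g * D.a = D.a * g → g * D.hom u * g⁻¹ ∉ Qc.map D.hom) :
    ∃ M : Subgroup ↥(Subgroup.centralizer ({D.a} : Set G)), M.Normal ∧ M.index = 2 ∧
      (⟨D.hom u, D.hom_mem_cent_a huT⟩ : ↥(Subgroup.centralizer ({D.a} : Set G))) ∉ M := by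
  have : Fact (Nat.Prime 2) := ⟨Nat.prime_two⟩
  set X := Subgroup.centralizer ({D.a} : Set G)
  obtain ⟨P, hP⟩ : ∃ P : Sylow 2 ↥X, (P : Subgroup ↥X) = (mT.map D.hom).subgroupOf X := D.exists_sylow_cent_a
  have hTX : mT.map D.hom ≤ X := by
    rintro _ ⟨x, hx, rfl⟩
    exact D.hom_mem_cent_a (mem_mT.1 hx)
  refine CfsgLib.ThompsonTransfer.exists_normal_index_two (P : Subgroup X)
    ((Qc.map D.hom).subgroupOf X) (Nat.odd_iff.2 (by have := P.not_dvd_index; omega)) ?_
    ⟨D.hom u, D.hom_mem_cent_a huT⟩ (Subtype.ext (by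
      rw [Subgroup.coe_pow, pow_two, ← map_mul, hu, map_one, Subgroup.coe_one])) (fun g hg => ?_)
  · rw [hP, Subgroup.relIndex_subgroupOf hTX]
    have h := Subgroup.relIndex_mul_relIndex (⊥ : Subgroup G) (Qc.map D.hom) (mT.map D.hom) bot_le
      (Subgroup.map_mono hQT)
    rw [Subgroup.relIndex_bot_left, Subgroup.relIndex_bot_left, D.card_map, D.card_map, hQ8, card_mT] at h
    omega
  · exact hno g (D.mem_cent_a.1 g.2) (Subgroup.mem_subgroupOf.1 hg)

theorem odd_order_eq_one {x : G} {n : ℕ} (h : Odd (orderOf x)) (hd : orderOf x ∣ 2 ^ n) : x = 1 := by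
  rw [← orderOf_eq_one_iff]
  exact Nat.eq_one_of_dvd_coprimes (Nat.Coprime.pow_right n (Nat.coprime_two_right.2 h)) dvd_rfl hd

theorem CentData.odd_commute_z {x : G} (hodd : Odd (orderOf x)) (ha : x * D.a = D.a * x)
    (hz : x * D.z = D.z * x) : x = 1 := by
  obtain ⟨c, rfl⟩ := D.exists_of_comm hz
  have hc : c ∈ mT := mem_mT.2 (D.inj (by rw [map_mul, map_mul]; exact ha))
  refine odd_order_eq_one (n := 4) hodd ?_
  rw [orderOf_injective D.hom D.inj]
  exact (Subgroup.orderOf_dvd_natCard _ hc).trans (by rw [card_mT]; norm_num)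

end Finite

/-- The presentation of the centraliser of `a` as `2 × Sₙ`. -/
structure Shape (D : CentData G) (n : ℕ) (z0 q0 r0 : Perm (Fin n)) where
  /-- the embedding of the symmetric group -/
  hom : Perm (Fin n) →* G
  inj : Function.Injective hom
  comm : ∀ s, hom s * D.a = D.a * hom s
  ne_a : ∀ s, hom s ≠ D.a
  cover : ∀ g, g * D.a = D.a * g → ∃ s, g = hom s ∨ g = hom s * D.a
  map_z : hom z0 = D.z
  map_q : hom q0 = D.hom mq
  map_r : hom r0 = D.hom mr

/-- The images in degree 4. -/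
def z4 : Perm (Fin 4) := swap 0 1 * swap 2 3
/-- The images in degree 4. -/
def q4 : Perm (Fin 4) := swap 0 2 * swap 1 3
/-- The images in degree 4. -/
def r4 : Perm (Fin 4) := swap 2 3
/-- The images in degree 5. -/
def z5 : Perm (Fin 5) := swap 0 1 * swap 3 4
/-- The images in degree 5. -/
def q5 : Perm (Fin 5) := swap 0 3 * swap 1 4
/-- The images in degree 5. -/
def r5 : Perm (Fin 5) := swap 3 4

/-- Normal position in degree `n`. -/
@[reducible] def NormalPos (n : ℕ) (z0 q0 r0 : Perm (Fin n)) : Prop :=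
  (∀ Z : Perm (Fin n), Z * Z = 1 → Z ≠ 1 → ∀ Q : Perm (Fin n), Q * Q = 1 ∧ Q * Z = Z * Q →
    ∀ U : Perm (Fin n), U * U = 1 ∧ Perm.sign U = -1 ∧ Q * U * (Q * U) = Z →
      ∃ s : Perm (Fin n), s * Z * s⁻¹ = z0 ∧ s * Q * s⁻¹ = q0 ∧ s * U * s⁻¹ = r0) ∧
    Perm.sign r0 = -1 ∧ ∃ s : Perm (Fin n), s * z0 * s⁻¹ = q0

set_option synthInstance.maxSize 2000 in
theorem normalPos_four : NormalPos 4 z4 q4 r4 := by
  unfold NormalPos; decide +kernel

set_option synthInstance.maxSize 2000 in
theorem normalPos_five : NormalPos 5 z5 q5 r5 := by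
  unfold NormalPos; decide +kernel

theorem CentData.isConj_z_two [Finite G] [IsSimpleGroup G] (hG : ¬ IsMulCommutative G) {x : CM}
    (hx : lab x = 2) : IsConj D.z (D.hom x) :=
  (D.isConj_z_q hG).trans
    (D.isConj_of_lab (by rw [lab_facts.2.1]; norm_num) (lab_facts.2.1.trans hx.symm))

theorem CentData.not_three_z [Finite G] {x : CM} (hx : lab x = 3) : ¬ IsConj D.z (D.hom x) := fun h =>
  D.not_isConj_a (y := mz) (Or.inl lab_facts.1)
    ((D.isConj_of_lab (by rw [lab_facts.2.2.2.2.1]; norm_num) (lab_facts.2.2.2.2.1.trans hx.symm)).trans h.symm)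

/-- Twisting by the sign. -/
noncomputable def twist {n : ℕ} (φ : Perm (Fin n) →* G) (c : G) (hc : c * c = 1)
    (hcomm : ∀ s, φ s * c = c * φ s) : Perm (Fin n) →* G :=
  MonoidHom.mk' (fun s => if Perm.sign s = 1 then φ s else φ s * c) fun s t => by
    rcases Int.units_eq_one_or (Perm.sign s) with hs | hs <;>
      rcases Int.units_eq_one_or (Perm.sign t) with ht | ht <;>
      simp only [Perm.sign_mul, hs, ht, map_mul, mul_one, one_mul, if_true,
        show ((-1 : ℤˣ) = 1) = False by decide, if_false, show (-1 : ℤˣ) * -1 = 1 by decide]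
    · exact (mul_assoc _ _ _)
    · rw [mul_assoc, mul_assoc, hcomm t]
    · calc φ s * φ t = φ s * (φ t * (c * c)) := by rw [hc, mul_one]
        _ = φ s * ((φ t * c) * c) := by rw [mul_assoc (φ t)]
        _ = φ s * c * (φ t * c) := by rw [hcomm t]; simp only [mul_assoc]; rw [hcomm t]

section Main

variable [Finite G] [IsSimpleGroup G] (hG : ¬ IsMulCommutative G)

include hG in
/-- Elements of odd order commuting with `a` and an involution of class 2 are trivial. -/
theorem CentData.odd_commute_two {x : G} (hodd : Odd (orderOf x)) (ha : x * D.a = D.a * x) {w : CM}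
    (hw : lab w = 2) (hwa : w * ma = ma * w) (hx : x * D.hom w = D.hom w * x) : x = 1 := by
  obtain ⟨g, hg⟩ := isConj_iff.1 (D.isConj_z_two hG hw).symm
  have hga : g * D.a * g⁻¹ * D.z = D.z * (g * D.a * g⁻¹) := by
    rw [← hg]
    have e : D.a * D.hom w = D.hom w * D.a := by rw [CentData.a, ← map_mul, ← map_mul, hwa]
    calc g * D.a * g⁻¹ * (g * D.hom w * g⁻¹) = g * (D.a * D.hom w) * g⁻¹ := by group
      _ = g * D.hom w * g⁻¹ * (g * D.a * g⁻¹) := by rw [e]; group
  have hgx : g * x * g⁻¹ * D.z = D.z * (g * x * g⁻¹) := by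
    rw [← hg]
    calc g * x * g⁻¹ * (g * D.hom w * g⁻¹) = g * (x * D.hom w) * g⁻¹ := by group
      _ = g * D.hom w * g⁻¹ * (g * x * g⁻¹) := by rw [hx]; group
  obtain ⟨a', ha'⟩ := D.exists_of_comm hga
  obtain ⟨c, hc⟩ := D.exists_of_comm hgx
  have ha3 : lab ma ≠ 0 := by rw [lab_facts.2.2.2.2.1]; norm_num
  have ha'0 : lab a' ≠ 0 := D.lab_ne_zero (by
    rw [ha', CfsgLib.Invol.orderOf_conj]; exact D.orderOf_invol ha3)
  have hn1 : lab a' ≠ 1 := fun e => by
    refine D.not_isConj_a (y := mz) (Or.inl lab_facts.1) ?_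
    rw [← (lab_one_iff a').1 e]
    exact isConj_iff.2 ⟨g, ha'.symm⟩
  have hmem : c ∈ Subgroup.centralizer ({a'} : Set CM) := Subgroup.mem_centralizer_singleton_iff.2
    (D.inj (by
      rw [map_mul, map_mul, hc, ha']
      calc g * x * g⁻¹ * (g * D.a * g⁻¹) = g * (x * D.a) * g⁻¹ := by group
        _ = g * D.a * g⁻¹ * (g * x * g⁻¹) := by rw [ha]; group))
  have hcard : Nat.card ↥(Subgroup.centralizer ({a'} : Set CM)) ∣ 2 ^ 5 := by
    rw [(Nat.card_congr (Equiv.subtypeEquivRight fun y =>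
      Subgroup.mem_centralizer_singleton_iff)).trans (card_cent ha'0)]
    have := lab_le a'
    interval_cases (lab a') <;> simp_all
  refine odd_order_eq_one (n := 5) hodd ?_
  rw [← CfsgLib.Invol.orderOf_conj g x, ← hc, orderOf_injective D.hom D.inj]
  exact (Subgroup.orderOf_dvd_natCard _ hmem).trans hcard

include hG in
theorem shapeOf {n : ℕ} {z0 q0 r0 : Perm (Fin n)} {M : Subgroup ↥D.XA}
    (ψ : ↥M ≃* Perm (Fin n)) (t uH vH : ↥M) (htv : (((t : ↥D.XA) : G)) = D.z)
    (e f : Bool) (huG : ((uH : ↥D.XA) : G) = D.hom (uOf e))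
    (hvG : ((vH : ↥D.XA) : G) = D.hom (vOf f))
    (hpos : NormalPos n z0 q0 r0) (K : Subgroup ↥M) (hK : K.index = 2) (huK : uH ∉ K)
    (hu2 : uOf e * uOf e = 1) (hv2 : vOf f * vOf f = 1) (hvz : vOf f * mz = mz * vOf f)
    (hvu : vOf f * uOf e * (vOf f * uOf e) = mz)
    (haM : (⟨D.hom ma, D.hom_mem_cent_a rfl⟩ : ↥D.XA) ∉ M)
    (hcover : ∀ g : G, g * D.a = D.a * g → ∃ h : ↥M,
      g = ((h : ↥D.XA) : G) ∨
      g = ((h : ↥D.XA) : G) * D.a) :
    Nonempty (Shape D n z0 q0 r0) := by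
  let j : ↥M →* G := D.XA.subtype.comp M.subtype
  have jinj : Function.Injective j := D.XA.subtype_injective.comp M.subtype_injective
  have hz : j t = D.hom mz := htv
  have hju : j uH = D.hom (uOf e) := huG
  have hjv : j vH = D.hom (vOf f) := hvG
  have inj' : Function.Injective (fun w : ↥M => j w) := jinj
  have hU : ψ uH * ψ uH = 1 := by
    rw [← map_mul, ← map_one ψ]
    refine congrArg ψ (jinj ?_)
    rw [map_mul, hju, ← map_mul, hu2, map_one, map_one]
  have hV : ψ vH * ψ vH = 1 := by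
    rw [← map_mul, ← map_one ψ]
    refine congrArg ψ (jinj ?_)
    rw [map_mul, hjv, ← map_mul, hv2, map_one, map_one]
  have hVZ : ψ vH * ψ t = ψ t * ψ vH := by
    rw [← map_mul, ← map_mul]
    refine congrArg ψ (jinj ?_)
    rw [map_mul, map_mul, hz, hjv, ← map_mul, ← map_mul, hvz]
  have hVU : ψ vH * ψ uH * (ψ vH * ψ uH) = ψ t := by
    rw [← map_mul, ← map_mul]
    refine congrArg ψ (jinj ?_)
    rw [map_mul, map_mul, hju, hjv, hz, ← map_mul, ← map_mul, hvu]
  have hZ : ψ t * ψ t = 1 := by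
    rw [← map_mul, ← map_one ψ]
    refine congrArg ψ (jinj ?_)
    rw [map_mul, hz, ← map_mul, rel_aqrz.2.2.2.1, map_one, map_one]
  have hZ1 : ψ t ≠ 1 := fun h => by
    rw [MulEquiv.map_eq_one_iff] at h
    exact CfsgLib.Invol.ne_one_of_invol D.orderOf_z (by rw [← htv, h]; rfl)
  have hsign : Perm.sign (ψ uH) = -1 := by
    have hidx : (K.map ψ.toMonoidHom).index = 2 := (Subgroup.index_map_equiv K ψ).trans hK
    have hA := Equiv.Perm.eq_alternatingGroup_of_index_eq_two hidx
    rcases Int.units_eq_one_or (Perm.sign (ψ uH)) with h | h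
    · exfalso
      have hmem : ψ uH ∈ K.map ψ.toMonoidHom := by rw [hA]; exact Perm.mem_alternatingGroup.2 h
      obtain ⟨k, hk, hke⟩ := hmem
      exact huK (ψ.injective hke ▸ hk)
    · exact h
  obtain ⟨s, hs1, hs2, hs3⟩ := hpos.1 _ hZ hZ1 _ ⟨hV, hVZ⟩ _ ⟨hU, hsign, hVU⟩
  let φ : Perm (Fin n) →* G := j.comp (ψ.symm.toMonoidHom.comp (MulAut.conj s⁻¹).toMonoidHom)
  have φval : ∀ w : ↥M, φ (s * ψ w * s⁻¹) = j w := fun w => by
    show j (ψ.symm (s⁻¹ * (s * ψ w * s⁻¹) * s⁻¹⁻¹)) = j w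
    rw [show s⁻¹ * (s * ψ w * s⁻¹) * s⁻¹⁻¹ = ψ w by group, MulEquiv.symm_apply_apply]
  have φinj : Function.Injective φ :=
    jinj.comp (ψ.symm.injective.comp (MulAut.conj s⁻¹).injective)
  have φcomm : ∀ w, φ w * D.a = D.a * φ w := fun w => D.mem_cent_a.1 (M.subtype _).2
  have φne : ∀ w, φ w ≠ D.a := fun w h => by
    refine haM ?_
    rw [show (⟨D.hom ma, D.hom_mem_cent_a rfl⟩ : ↥D.XA) = M.subtype
      (ψ.symm ((MulAut.conj s⁻¹) w)) from Subtype.ext h.symm]
    exact Subtype.coe_prop _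
  have φcover : ∀ g, g * D.a = D.a * g → ∃ w, g = φ w ∨ g = φ w * D.a := fun g hg => by
    obtain ⟨h, hh⟩ := hcover g hg
    exact ⟨s * ψ h * s⁻¹, by rw [φval]; exact hh⟩
  have hz0 : φ z0 = D.z := by rw [← hs1, φval]; exact htv
  have hq0 : φ q0 = D.hom mq := by
    rw [← hs2, φval]
    cases f
    · exact hvG
    · exfalso
      obtain ⟨w, hw⟩ := hpos.2.2
      refine D.not_three_z lab_qa.1 (isConj_iff.2 ⟨φ w, ?_⟩)
      rw [← hz0, ← map_inv, ← map_mul, ← map_mul, hw, ← hs2, φval]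
      exact hvG
  have hr0 : φ r0 = D.hom (uOf e) := by rw [← hs3, φval]; exact huG
  cases e
  · exact ⟨⟨φ, φinj, φcomm, φne, φcover, hz0, hq0, hr0⟩⟩
  · have ha2 : D.a * D.a = 1 := by rw [CentData.a, ← map_mul, rel_aqrz.1, map_one]
    refine ⟨⟨twist φ D.a ha2 φcomm, ?_, ?_, ?_, ?_, ?_, ?_, ?_⟩⟩
    · rw [injective_iff_map_eq_one]
      intro w hw
      change (if Perm.sign w = 1 then φ w else φ w * D.a) = 1 at hw
      split_ifs at hw
      · exact (injective_iff_map_eq_one φ).1 φinj w hw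
      · exact absurd ((mul_eq_one_iff_eq_inv.1 hw).trans (inv_eq_of_mul_eq_one_right ha2)) (φne w)
    · intro w
      change (if Perm.sign w = 1 then φ w else φ w * D.a) * D.a =
        D.a * (if Perm.sign w = 1 then φ w else φ w * D.a)
      split_ifs
      · exact φcomm w
      · rw [← mul_assoc, ← φcomm w, mul_assoc]
    · intro w h
      change (if Perm.sign w = 1 then φ w else φ w * D.a) = D.a at h
      split_ifs at h with hw
      · exact φne w h
      · have : w = 1 := (injective_iff_map_eq_one φ).1 φinj w (mul_eq_right.1 h)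
        exact hw (by rw [this, map_one])
    · intro g hg
      obtain ⟨w, hw⟩ := φcover g hg
      refine ⟨w, ?_⟩
      change g = (if Perm.sign w = 1 then φ w else φ w * D.a) ∨
        g = (if Perm.sign w = 1 then φ w else φ w * D.a) * D.a
      split_ifs
      · exact hw
      · rw [mul_assoc, ha2, mul_one]; exact hw.symm
    · change (if Perm.sign z0 = 1 then φ z0 else φ z0 * D.a) = D.z
      rw [if_pos, hz0]
      rw [← hs1, map_mul, map_mul, map_inv, mul_inv_cancel_comm, ← hVU]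
      rw [map_mul, map_mul, hsign, ← mul_mul_mul_comm]
      rcases Int.units_eq_one_or (Perm.sign (ψ vH)) with h | h <;> rw [h] <;> decide
    · change (if Perm.sign q0 = 1 then φ q0 else φ q0 * D.a) = D.hom mq
      obtain ⟨w, hw⟩ := hpos.2.2
      rw [if_pos, hq0]
      rw [← hw, map_mul, map_mul, map_inv, mul_inv_cancel_comm, ← hs1, map_mul, map_mul, map_inv,
        mul_inv_cancel_comm, ← hVU, map_mul, map_mul, hsign]
      rcases Int.units_eq_one_or (Perm.sign (ψ vH)) with h | h <;> rw [h] <;> decide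
    · change (if Perm.sign r0 = 1 then φ r0 else φ r0 * D.a) = D.hom mr
      rw [if_neg (by rw [hpos.2.1]; decide), hr0, CentData.a, ← map_mul]
      have e1 : uOf true * ma = mr := by decide +kernel
      rw [e1]

include hG in
theorem CentData.cent_a_cases :
    (∀ g : G, g * D.a = D.a * g → g * D.z = D.z * g) ∨
      Nonempty (Shape D 4 z4 q4 r4) ∨ Nonempty (Shape D 5 z5 q5 r5) := by
  classical
  have : Fact (Nat.Prime 2) := ⟨Nat.prime_two⟩
  set X := Subgroup.centralizer ({D.a} : Set G) with hX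
  have ha2 : D.a * D.a = 1 := by rw [CentData.a, ← map_mul, rel_aqrz.1, map_one]
  -- the transfers
  obtain ⟨M, hMn, hMi, haM⟩ := D.exists_index_two mQa (by
      rintro _ ⟨i, rfl⟩
      exact mem_mT.2 ((dih_facts (false, false) (by decide)).2.2.1 i).2)
    card_mQa ma rel_aqrz.1 rfl (fun g hg hmem => by
      have e : g * D.hom ma * g⁻¹ = D.hom ma := mul_inv_eq_iff_eq_mul.2 hg
      rw [e] at hmem
      obtain ⟨x, ⟨i, hi⟩, hx⟩ := hmem
      exact ((dih_facts (false, false) (by decide)).2.2.1 i).1 (hi.trans (D.inj hx)))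
  have hMr : ∀ e : Bool, ∃ M2 : Subgroup ↥X, M2.Normal ∧ M2.index = 2 ∧
      (⟨D.hom (uOf e), D.hom_mem_cent_a (uv_facts (e, false) (by cases e <;> decide)).2.2.2.2.1⟩ : ↥X) ∉ M2 := by
    intro e
    obtain ⟨h1, -, -, -, h5, -, h7, h8⟩ := uv_facts (e, false) (by cases e <;> decide)
    refine D.exists_index_two mQr inf_le_left card_mQr (uOf e) h1 h5 (fun g hg hmem => ?_)
    obtain ⟨x, hx, hxe⟩ := hmem
    have hx3 : lab x = 3 ∧ lab (x * ma) = 3 := by
      have key : ∀ w w' : CM, lab w = 3 → g * D.hom w * g⁻¹ = D.hom w' → lab w' = 3 ∨ lab w' = 4 := by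
        intro w w' hw hw'
        have h0 : lab w' ≠ 0 := D.lab_ne_zero (by
          rw [← hw', CfsgLib.Invol.orderOf_conj]; exact D.orderOf_invol (by omega))
        have h4 := lab_le w'
        have hc : IsConj (D.hom w) (D.hom w') := isConj_iff.2 ⟨g, hw'⟩
        have n1 : lab w' ≠ 1 := fun e => D.not_three_z hw (by
          rw [(lab_one_iff w').1 e] at hc
          exact hc.symm)
        have n2 : lab w' ≠ 2 := fun e => D.not_three_z hw ((D.isConj_z_two hG e).trans hc.symm)
        omega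
      have hno4 : ∀ w : CM, w * ma = ma * w → lab w ≠ 4 := by decide +kernel
      have hxT := (mem_mQr.1 hx).1
      constructor
      · exact (key _ x h7 hxe.symm).resolve_right (hno4 x hxT)
      · refine (key (uOf e * ma) (x * ma) h8 ?_).resolve_right
          (hno4 _ (by rw [mul_assoc, ← mul_assoc ma, ← hxT, mul_assoc]))
        rw [map_mul, map_mul, hxe]
        calc g * (D.hom (uOf e) * D.hom ma) * g⁻¹
            = g * D.hom (uOf e) * g⁻¹ * (g * D.a * g⁻¹) := by rw [CentData.a]; group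
          _ = _ := by rw [mul_inv_eq_iff_eq_mul.2 hg]; rfl
    rcases mQr_facts.1 x (mem_mQr.1 hx) hx3.1 with rfl | h
    · have hh : D.hom (uOf e) = D.a := by
        have e' : g⁻¹ * D.hom ma * g = D.hom (uOf e) := by rw [hxe]; group
        rw [← e']
        calc g⁻¹ * D.hom ma * g = g⁻¹ * (D.a * g) := by rw [CentData.a]; group
          _ = D.a := by rw [← hg]; group
      have := D.inj hh
      cases e <;> revert this <;> decide +kernel
    · exact h hx3.2
  -- choices
  let inM : CM → Prop := fun w => ∃ h : w * ma = ma * w, (⟨D.hom w, D.hom_mem_cent_a h⟩ : ↥X) ∈ M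
  have hnotboth : ∀ w : CM, w * ma = ma * w → (inM w ∨ inM (w * ma)) ∧ ¬ (inM w ∧ inM (w * ma)) := by
    intro w hw
    have hwa : w * ma * ma = ma * (w * ma) := by rw [hw, mul_assoc ma, hw]
    have hprod : (⟨D.hom (w * ma), D.hom_mem_cent_a hwa⟩ : ↥X) =
        ⟨D.hom w, D.hom_mem_cent_a hw⟩ * ⟨D.hom ma, D.hom_mem_cent_a rfl⟩ := Subtype.ext (map_mul _ _ _)
    have key := Subgroup.mul_mem_iff_of_index_two hMi (a := (⟨D.hom w, D.hom_mem_cent_a hw⟩ : ↥X))
      (b := ⟨D.hom ma, D.hom_mem_cent_a rfl⟩)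
    rw [← hprod] at key
    by_cases h : (⟨D.hom w, D.hom_mem_cent_a hw⟩ : ↥X) ∈ M
    · exact ⟨Or.inl ⟨hw, h⟩, fun ⟨_, ⟨_, h2⟩⟩ => haM ((key.1 h2).1 h)⟩
    · exact ⟨Or.inr ⟨hwa, key.2 (iff_of_false h haM)⟩, fun ⟨⟨_, h1⟩, _⟩ => h h1⟩
  obtain ⟨e, hue⟩ : ∃ e, inM (uOf e) := by
    rcases (hnotboth mr cent_a_comm.2.2.2).1 with h | h
    · exact ⟨false, h⟩
    · refine ⟨true, ?_⟩
      rwa [show uOf true = mr * ma from cent_a_comm.2.2.2.symm]
  obtain ⟨f, hvf⟩ : ∃ f, inM (vOf f) := by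
    rcases (hnotboth mq cent_a_comm.2.2.1).1 with h | h
    · exact ⟨false, h⟩
    · exact ⟨true, h⟩
  obtain ⟨hu2, hv2, hvz, hvu, hua, hva, -, -⟩ := uv_facts (e, f) (by cases e <;> cases f <;> decide)
  obtain ⟨dhom, dinj, dT, dcov⟩ := dih_facts (e, f) (by cases e <;> cases f <;> decide)
  obtain ⟨hua', huM⟩ := hue
  obtain ⟨hva', hvM⟩ := hvf
  dsimp only at hu2 hv2 hvz hvu hua hva dhom dinj dT dcov
  let uX : ↥X := ⟨D.hom (uOf e), D.hom_mem_cent_a hua⟩
  let vX : ↥X := ⟨D.hom (vOf f), D.hom_mem_cent_a hva⟩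
  let uH : ↥M := ⟨uX, huM⟩
  let vH : ↥M := ⟨vX, hvM⟩
  let t : ↥M := vH * uH * (vH * uH)
  have htv : ((t : ↥X) : G) = D.z := by
    show D.hom (vOf f) * D.hom (uOf e) * (D.hom (vOf f) * D.hom (uOf e)) = D.z
    rw [← map_mul, ← map_mul, hvu]; rfl
  have ht : orderOf t = 2 := by
    rw [← orderOf_injective M.subtype M.subtype_injective, ← orderOf_injective X.subtype X.subtype_injective]
    show orderOf ((t : ↥X) : G) = 2
    rw [htv, D.orderOf_z]
  have hdM : ∀ i, (⟨D.hom (dihF (uOf e) (vOf f) i), D.hom_mem_cent_a (dT i).2⟩ : ↥X) ∈ M := by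
    intro i
    rcases i with i | i
    · have : (⟨D.hom (dihF (uOf e) (vOf f) (r i)), D.hom_mem_cent_a (dT (r i)).2⟩ : ↥X) = (vX * uX) ^ i.val :=
        Subtype.ext (by simp [dihF, map_pow, uX, vX])
      rw [this]
      exact M.pow_mem (M.mul_mem hvM huM) _
    · have : (⟨D.hom (dihF (uOf e) (vOf f) (sr i)), D.hom_mem_cent_a (dT (sr i)).2⟩ : ↥X) = uX * (vX * uX) ^ i.val :=
        Subtype.ext (by simp [dihF, map_pow, uX, vX])
      rw [this]
      exact M.mul_mem huM (M.pow_mem (M.mul_mem hvM huM) _)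
  have hzc : ∀ i, (⟨⟨D.hom (dihF (uOf e) (vOf f) i), D.hom_mem_cent_a (dT i).2⟩, hdM i⟩ : ↥M) ∈
      Subgroup.centralizer ({t} : Set ↥M) := fun i => Subgroup.mem_centralizer_singleton_iff.2
    (Subtype.ext (Subtype.ext (by
      show D.hom _ * ((t : ↥X) : G) = ((t : ↥X) : G) * D.hom _
      rw [htv, D.comm_z])))
  let dmap : DihedralGroup 4 →* ↥(Subgroup.centralizer ({t} : Set ↥M)) :=
    MonoidHom.mk' (fun i => ⟨⟨⟨D.hom (dihF (uOf e) (vOf f) i), D.hom_mem_cent_a (dT i).2⟩, hdM i⟩, hzc i⟩)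
      fun i j => Subtype.ext (Subtype.ext (Subtype.ext (by
        show D.hom (dihF (uOf e) (vOf f) (i * j)) = _
        rw [dhom, map_mul]; rfl)))
  have dbij : Function.Bijective dmap := by
    refine ⟨fun i j h => dinj i j (D.inj (congrArg Subtype.val (congrArg Subtype.val (congrArg Subtype.val h)))), ?_⟩
    rintro ⟨⟨⟨g, hgX⟩, hgM⟩, hgt⟩
    have hgz : g * D.z = D.z * g := by
      have h := congrArg (fun w : ↥M => ((w : ↥X) : G)) (Subgroup.mem_centralizer_singleton_iff.1 hgt)
      simp only [Subgroup.coe_mul] at h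
      rwa [htv] at h
    obtain ⟨w, rfl⟩ := D.exists_of_comm hgz
    have hwa : w * ma = ma * w := D.inj (by rw [map_mul, map_mul]; exact D.mem_cent_a.1 hgX)
    obtain ⟨i, hi | hi⟩ := dcov w hwa
    · subst hi; exact ⟨i, rfl⟩
    · exfalso
      refine (hnotboth _ (dT i).2).2 ⟨⟨(dT i).2, hdM i⟩, ⟨by rw [← hi]; exact hwa, ?_⟩⟩
      subst hi
      exact hgM
  let ed := (MulEquiv.ofBijective dmap dbij).symm
  -- the second transfer
  obtain ⟨M2, hM2n, hM2i, huM2⟩ := hMr e
  have hne : uH ∉ M2.subgroupOf M := fun h => huM2 (Subgroup.mem_subgroupOf.1 h)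
  haveI := hM2n
  have hidx : (M2.subgroupOf M).index = 2 := by
    have hd : (M2.subgroupOf M).index ∣ 2 := hM2i ▸ Subgroup.relIndex_dvd_index_of_normal M2 M
    rcases (Nat.dvd_prime Nat.prime_two).1 hd with h | h
    · exact absurd (Subgroup.index_eq_one.1 h ▸ Subgroup.mem_top uH) hne
    · exact h
  have hcover : ∀ g : G, g * D.a = D.a * g → ∃ h : ↥M, g = ((h : ↥X) : G) ∨ g = ((h : ↥X) : G) * D.a := by
    intro g hg
    by_cases h : (⟨g, D.mem_cent_a.2 hg⟩ : ↥X) ∈ M
    · exact ⟨⟨_, h⟩, Or.inl rfl⟩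
    · refine ⟨⟨⟨g, D.mem_cent_a.2 hg⟩ * ⟨D.hom ma, D.hom_mem_cent_a rfl⟩,
        (Subgroup.mul_mem_iff_of_index_two hMi).2 (iff_of_false h haM)⟩, Or.inr ?_⟩
      show g = g * D.a * D.a
      rw [mul_assoc, ha2, mul_one]
  rcases CfsgLib.Invol.D8IndexTwo.classify ed ht (M2.subgroupOf M) hidx with hsup | hS4 | hS5
  · left
    have hO : Cfsg.oddCore ↥M = ⊥ := by
      rw [Subgroup.eq_bot_iff_forall]
      intro x hx
      set O := Cfsg.oddCore ↥M with hOdef
      have hOodd : Odd (Nat.card O) :=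
        Nat.coprime_two_right.1 (CfsgLib.Solvable.pPrimeCore_card_coprime 2 ↥M)
      haveI hOn : O.Normal := CfsgLib.Solvable.pPrimeCore_normal 2 ↥M
      have hodd : ∀ y ∈ O, Odd (orderOf (((y : ↥M) : ↥X) : G)) := by
        intro y hy
        have h1 : orderOf (((y : ↥M) : ↥X) : G) = orderOf y := by
          rw [← orderOf_injective M.subtype M.subtype_injective,
            ← orderOf_injective X.subtype X.subtype_injective]; rfl
        rw [h1]
        exact Odd.of_dvd_nat hOodd (Subgroup.orderOf_dvd_natCard _ hy)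
      have hinv : ∀ s : ↥M, s * s = 1 → (∀ y ∈ O, s * y = y * s → y = 1) → ∀ y ∈ O, s * y * s⁻¹ = y⁻¹ := by
        intro s hs hfix y hy
        let φ : O →* O := ((MulAut.conjNormal s : O ≃* O)).toMonoidHom
        have hff : MonoidHom.FixedPointFree φ := fun w hw => Subtype.ext (hfix _ w.2 (by
          have h2 : s * (w : ↥M) * s⁻¹ = w := by simpa [φ, MulAut.conjNormal_apply] using congrArg Subtype.val hw
          exact mul_inv_eq_iff_eq_mul.1 h2))
        have h2 : Function.Involutive φ := fun w => Subtype.ext (by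
          show s * (s * (w : ↥M) * s⁻¹) * s⁻¹ = w
          rw [show s * (s * (w : ↥M) * s⁻¹) * s⁻¹ = (s * s) * w * (s * s)⁻¹ by group, hs]
          group)
        exact congrArg Subtype.val (congrFun (hff.coe_eq_inv_of_involutive h2) ⟨y, hy⟩)
      have htc : ∀ y ∈ O, t * y = y * t → y = 1 := fun y hy h => by
        refine Subtype.ext (Subtype.ext (D.odd_commute_z (hodd y hy) (D.mem_cent_a.1 (y : ↥X).2) ?_))
        have h' := congrArg (fun w : ↥M => ((w : ↥X) : G)) h
        simp only [Subgroup.coe_mul] at h'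
        rw [htv] at h'
        exact h'.symm
      have hvc : ∀ (w : CM), lab w = 2 → w * ma = ma * w → ∀ s : ↥M,
          (((s : ↥X) : G) = D.hom w ∨ ((s : ↥X) : G) = D.hom w * D.a) → ∀ y ∈ O, s * y = y * s → y = 1 := by
        intro w hw hwa s hs y hy h
        refine Subtype.ext (Subtype.ext (D.odd_commute_two hG (hodd y hy) (D.mem_cent_a.1 (y : ↥X).2) hw hwa ?_))
        have h' := congrArg (fun w : ↥M => ((w : ↥X) : G)) h
        simp only [Subgroup.coe_mul] at h'
        rcases hs with hs | hs <;> rw [hs] at h'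
        · exact h'.symm
        · have e1 : ((y : ↥X) : G) * D.a = D.a * ((y : ↥X) : G) := D.mem_cent_a.1 (y : ↥X).2
          rw [mul_assoc, ← e1, ← mul_assoc, ← mul_assoc] at h'
          exact (mul_right_cancel h').symm
      have hvv : vH * vH = 1 := Subtype.ext (Subtype.ext (by
        show D.hom (vOf f) * D.hom (vOf f) = 1
        rw [← map_mul, hv2, map_one]))
      have hv_cases : ((vH : ↥X) : G) = D.hom mq ∨ ((vH : ↥X) : G) = D.hom mq * D.a := by
        cases f
        · exact Or.inl rfl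
        · exact Or.inr (map_mul _ _ _)
      have h1 := hinv t (by rw [← pow_two, ← ht, pow_orderOf_eq_one]) htc x hx
      have h2 := hinv vH hvv (hvc mq lab_facts.2.1 cent_a_comm.2.2.1 vH hv_cases) x hx
      refine hvc (mq * mz) lab_qa.2 (by
        rw [mul_assoc, ← mz_central, ← mul_assoc, cent_a_comm.2.2.1, mul_assoc]) (vH * t) ?_ x hx ?_
      · show ((vH : ↥X) : G) * ((t : ↥X) : G) = _ ∨ _
        simp only [Subgroup.coe_mul, map_mul]
        rw [htv]
        rcases hv_cases with h | h <;> rw [h]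
        · exact Or.inl rfl
        · refine Or.inr ?_
          have e1 : D.a * D.z = D.z * D.a := by rw [CentData.a, D.comm_z]
          rw [mul_assoc, e1, ← mul_assoc]; rfl
      · calc vH * t * x = vH * (t * x * t⁻¹) * t := by group
          _ = (vH * x * vH⁻¹)⁻¹ * vH * t := by rw [h1]; group
          _ = x * (vH * t) := by rw [h2]; group
    rw [hO, sup_bot_eq] at hsup
    intro g hg
    have key : ∀ h : ↥M, ((h : ↥X) : G) * D.z = D.z * ((h : ↥X) : G) := fun h => by
      have := congrArg (fun w : ↥M => ((w : ↥X) : G))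
        (Subgroup.mem_centralizer_singleton_iff.1 (hsup ▸ Subgroup.mem_top h))
      simp only [Subgroup.coe_mul] at this
      rwa [htv] at this
    obtain ⟨h, rfl | rfl⟩ := hcover g hg
    · exact key h
    · have e1 : D.a * D.z = D.z * D.a := by rw [CentData.a, D.comm_z]
      rw [mul_assoc, e1, ← mul_assoc, key, mul_assoc]
  all_goals right
  · left
    obtain ⟨ψ⟩ := hS4
    exact shapeOf D hG ψ t uH vH htv e f rfl rfl normalPos_four (M2.subgroupOf M) hidx hne hu2 hv2 hvz hvu
      haM hcover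
  · right
    obtain ⟨ψ⟩ := hS5
    exact shapeOf D hG ψ t uH vH htv e f rfl rfl normalPos_five (M2.subgroupOf M) hidx hne hu2 hv2 hvz hvu
      haM hcover

end Main

end CfsgLib.M12Recog
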