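import Cfsg.Agent.Lib.M12Recog.Data
import Cfsg.Agent.Lib.Golay.Mathieu
import Cfsg.Agent.Lib.M24Elt.Basic

/-!
The centraliser of a 2-central involution of M12 as an explicit group of 192 elements.
-/

set_option autoImplicit false
set_option maxRecDepth 10000

namespace CfsgLib.M12Recog

open Cfsg CfsgLib.CosetEnum CfsgLib.M24Elt CfsgLib.Comp CfsgLib.Golay
open scoped Pointwise

/-- The code of element `i`. -/
noncomputable def codeN (i : ℕ) : ℕ := codes.get 192 i

/-- The product on indices. -/
noncomputable def mulN (i j : ℕ) : ℕ := mulTab.get 8 (192 * i + j)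

/-- The inverse on indices. -/
noncomputable def invN (i : ℕ) : ℕ := (invTab >>> (8 * i)) &&& 255

/-- The parent of an index. -/
noncomputable def parN (i : ℕ) : ℕ := (parTab >>> (8 * i)) &&& 255

/-- The generator leading to an index. -/
noncomputable def genN (i : ℕ) : ℕ := gensIdx.getD ((genTab >>> (4 * i)) &&& 15) 0

/-- Membership test for M12 on codes. -/
noncomputable def inM12 (c : ℕ) : Bool := good c && Nat.beq (CfsgLib.Golay.push c 340831) 340831

theorem pm_mem_M12 {c : ℕ} (h : inM12 c = true) : pm c ∈ Spor.M12 := by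
  simp only [inM12, Bool.and_eq_true] at h
  obtain ⟨hg, hD⟩ := h
  refine mem_M12.2 ⟨CfsgLib.M24Elt.pm_mem hg, ?_⟩
  rw [squareDodecad_eq, ← toSet_push (isPermOf_pm (good_ok hg)), Nat.eq_of_beq_eq_true hD]

theorem ok_of_inM12 {c : ℕ} (h : inM12 c = true) : PermCode.Ok 24 c := by
  simp only [inM12, Bool.and_eq_true] at h
  exact good_ok h.1

/-- Every code lies in M12; the inverse and parent tables are sound. -/
noncomputable def basicCheck : Bool :=
  PermCode.allLt 192 (fun i => inM12 (codeN i) && Nat.blt (invN i) 192 && Nat.beq (mulN (invN i) i) 0 &&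
    Nat.beq (mulN i 0) i && Nat.beq (mulN 0 i) i &&
    (Nat.beq i 0 || (Nat.blt (parN i) i && Nat.blt (genN i) 192 && Nat.beq (mulN (parN i) (genN i)) i))) &&
  isOne (codeN 0) &&
  gensIdx.all (fun g => Nat.blt g 192 &&
    PermCode.allLt 192 fun i => eqc (codeN (mulN i g)) (PermCode.mul 24 (codeN i) (codeN g)))

theorem basic_ok : basicCheck = true := by
  decide +kernel

/-- The table is associative along the spanning tree. -/
noncomputable def treeCheck : Bool :=
  PermCode.allLt 192 fun j => PermCode.allLt 192 fun i => Nat.blt (mulN i j) 192 &&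
    (Nat.beq j 0 || Nat.beq (mulN i j) (mulN (mulN i (parN j)) (genN j)))

theorem tree_ok : treeCheck = true := by
  decide +kernel

/-- The codes are different. -/
noncomputable def distinctCheck : Bool :=
  PermCode.allLt 192 fun i => PermCode.allLt i fun j => !eqc (codeN i) (codeN j)

theorem distinct_ok : distinctCheck = true := by
  decide +kernel

theorem genN_def (i : ℕ) : genN i = gensIdx.getD ((genTab >>> (4 * i)) &&& 15) 0 := rfl

attribute [irreducible] mulN invN codeN parN genN 

end CfsgLib.M12Recog
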