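import Cfsg.Agent.Lib.M12Recog.CentA

/-!
Counts of pairs in the models.
-/

set_option autoImplicit false
set_option maxRecDepth 100000

namespace CfsgLib.M12Recog

open Equiv

/-- `w` is a power of `x`. -/
def InPow (w x : CM) : Prop := ∃ k : Fin 8, x ^ (k : ℕ) = w

noncomputable instance (w x : CM) : Decidable (InPow w x) := inferInstanceAs (Decidable (∃ _, _))

theorem mem_zpowers_iff_inPow {w x : CM} : w ∈ Subgroup.zpowers x ↔ InPow w x := by
  refine ⟨fun h => ?_, fun ⟨k, hk⟩ => hk ▸ Subgroup.npow_mem_zpowers _ _⟩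
  classical
  obtain ⟨k, hk, hkw⟩ := Finset.mem_image.1 (mem_zpowers_iff_mem_range_orderOf.1 h)
  rw [Finset.mem_range] at hk
  have h8 : orderOf x ≤ 8 := by
    rcases pow_eight_or_six x with e | e
    · exact Nat.le_of_dvd (by norm_num) (orderOf_dvd_of_pow_eq_one e)
    · exact (Nat.le_of_dvd (by norm_num) (orderOf_dvd_of_pow_eq_one e)).trans (by norm_num)
  exact ⟨⟨k, by omega⟩, hkw⟩

/-- The labels of the first class. -/
def kOne (n : ℕ) : Prop := n = 1 ∨ n = 2 ∨ n = 4

/-- The number of pairs in the model. -/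
noncomputable def pairCount (w : CM) (pK pA : List ℕ) : ℕ :=
  ∑ u : CM, if lab u ∈ pK then (Finset.univ.filter fun v : CM => lab v ∈ pA ∧ InPow w (u * v)).card else 0

theorem pairCount_values :
    pairCount mz [1, 2, 4] [3] = 240 ∧ pairCount ma [1, 2, 4] [3] = 3 ∧
      pairCount mz [1, 2] [3, 4] = 48 ∧ pairCount ma [1, 2] [3, 4] = 3 := by
  decide +kernel

/-- Involutions of degree at most five. -/
@[reducible] def InvClasses (n : ℕ) (z0 r0 : Perm (Fin n)) : Prop :=
  (∀ s : Perm (Fin n), s * s = 1 → s = 1 ∨ (∃ h, h * z0 * h⁻¹ = s) ∨ (∃ h, h * r0 * h⁻¹ = s)) ∧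
    (∀ s : Perm (Fin n), s ^ 60 = 1) ∧ (∀ h : Perm (Fin n), h * z0 * h⁻¹ ≠ 1)

/-- The number of pairs in degree `n`. -/
def shapeCount (n : ℕ) (z0 : Perm (Fin n)) : ℕ :=
  ∑ s : Perm (Fin n), if ∃ h, h * z0 * h⁻¹ = s then
    (Finset.univ.filter fun t : Perm (Fin n) => t * t = 1 ∧ (s * t) ^ 15 = 1).card else 0

theorem invClasses_four : InvClasses 4 z4 r4 := by
  unfold InvClasses; decide +kernel

theorem invClasses_five : InvClasses 5 z5 r5 := by
  unfold InvClasses; decide +kernel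

theorem shapeCount_four : shapeCount 4 z4 = 3 := by decide +kernel

theorem shapeCount_five : shapeCount 5 z5 = 195 := by decide +kernel

theorem thirteen : (∀ v : CM, lab v = 4 → (Finset.univ.filter fun h : CM =>
      lab h ∈ [1, 2, 4] ∧ h ≠ v ∧ InPow mz (v * h)).card = 13) ∧
    (Finset.univ.filter fun v : CM => lab v = 4).card = 24 := by
  decide +kernel

end CfsgLib.M12Recog
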