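import Cfsg.Agent.Lib.M12Recog.Facts
import Cfsg.Agent.Lib.M12Recog.Setup
import Cfsg.Agent.Lib.Golay.Simple
import Cfsg.Prelude.Def_SporadicB

/-!
The centraliser of a 2-central involution of M12.
-/

set_option autoImplicit false
set_option maxRecDepth 100000

namespace CfsgLib.M12Recog

open Cfsg CfsgLib.M24Elt CfsgLib.Comp CfsgLib.Golay
open scoped Pointwise

/-- The class entry. -/
def clsAt (k : ℕ) : ℕ × ℕ × ℕ := clsTab.getD k (0, 0, 0)

theorem cgens_ok : (clsGens.all inM12 && Nat.beq clsGens.length 4) = true := by decide +kernel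

theorem cls_ok : (Nat.beq clsTab.length 495 && eqc (clsAt 0).1 (codeN zI) && PermCode.okb 24 (clsAt 0).1 &&
    (List.range 495).all (fun k => Nat.beq k 0 || (Nat.blt (clsAt k).2.1 k && Nat.blt (clsAt k).2.2 4 &&
      PermCode.okb 24 (clsAt k).1 &&
      eqc (PermCode.mul 24 (clsAt k).1 (clsGens.getD (clsAt k).2.2 0))
        (PermCode.mul 24 (clsGens.getD (clsAt k).2.2 0) (clsAt (clsAt k).2.1).1)))) = true := by
  decide +kernel

theorem cls_nodup : (List.range 495).all (fun i => (List.range i).all (fun j =>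
    !eqc (clsAt i).1 (clsAt j).1)) = true := by
  decide +kernel

/-- The central involution in M12. -/
noncomputable def zM : ↥Spor.M12 := emb mz

theorem cls_spec : ∀ k < 495, ∃ g : ↥Spor.M12,
    pm (clsAt k).1 = ((g * zM * g⁻¹ : ↥Spor.M12) : Equiv.Perm GolayPt) ∧ PermCode.Ok 24 (clsAt k).1 := by
  have h := cls_ok
  simp only [Bool.and_eq_true] at h
  obtain ⟨⟨⟨-, h0⟩, h00⟩, hk⟩ := h
  have hz : pm (codeN zI) = (zM : Equiv.Perm GolayPt) := rfl
  have hzok : PermCode.Ok 24 (codeN zI) := ok_of_inM12 (basic_spec (by decide : zI < 192)).1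
  have hg := cgens_ok
  simp only [Bool.and_eq_true] at hg
  intro k
  induction k using Nat.strong_induction_on with
  | _ k ih =>
    intro hk495
    rcases Nat.eq_zero_or_pos k with rfl | hpos
    · exact ⟨1, by rw [pm_eq_of_eqc (PermCode.ok_of_okb h00) hzok h0, hz]; simp, PermCode.ok_of_okb h00⟩
    have h1 := List.all_eq_true.1 hk k (List.mem_range.2 hk495)
    simp only [Bool.or_eq_true, Bool.and_eq_true] at h1
    rcases h1 with h1 | ⟨⟨⟨hp, hgi⟩, hok⟩, heq⟩
    · exact absurd (Nat.eq_of_beq_eq_true h1) (by omega)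
    have hp' : (clsAt k).2.1 < k := by simpa [Nat.blt_eq] using hp
    have hg' : (clsAt k).2.2 < clsGens.length := by
      rw [Nat.eq_of_beq_eq_true hg.2]; simpa [Nat.blt_eq] using hgi
    obtain ⟨g, hgz, hpok⟩ := ih _ hp' (by omega)
    set s := clsGens.getD (clsAt k).2.2 0 with hs
    have hsmem : inM12 s = true := by
      refine List.all_eq_true.1 hg.1 _ ?_
      rw [hs, List.getD_eq_getElem _ _ hg']
      exact List.getElem_mem _
    have hcok := PermCode.ok_of_okb hok
    have hsok := ok_of_inM12 hsmem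
    have e := pm_eq_of_eqc (ok_pm_mul hcok hsok) (ok_pm_mul hsok hpok) heq
    rw [pm_mul hcok hsok, pm_mul hsok hpok, hgz] at e
    refine ⟨(⟨pm s, pm_mem_M12 hsmem⟩ : ↥Spor.M12) * g, ?_, hcok⟩
    rw [← mul_inv_cancel_right (pm (clsAt k).1) (pm s), e]
    simp [mul_assoc]

theorem card_centralizer_le : Nat.card ↥(Subgroup.centralizer ({zM} : Set ↥Spor.M12)) ≤ 192 := by
  set C := Subgroup.centralizer ({zM} : Set ↥Spor.M12) with hC
  choose g hg hok using cls_spec
  let f : Fin 495 → ↥Spor.M12 ⧸ C := fun k => (g k k.2 : ↥Spor.M12)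
  have key : ∀ i j : Fin 495, (j : ℕ) < i → f i ≠ f j := by
    intro i j hlt he
    have hn := List.all_eq_true.1 (List.all_eq_true.1 cls_nodup _ (List.mem_range.2 i.2)) _
      (List.mem_range.2 hlt)
    have hm : (g i i.2)⁻¹ * g j j.2 ∈ C := QuotientGroup.eq.1 he
    rw [hC, Subgroup.mem_centralizer_singleton_iff] at hm
    have e : g i i.2 * zM * (g i i.2)⁻¹ = g j j.2 * zM * (g j j.2)⁻¹ := by
      calc g i i.2 * zM * (g i i.2)⁻¹
          = g i i.2 * (zM * ((g i i.2)⁻¹ * g j j.2)) * (g j j.2)⁻¹ := by group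
        _ = g j j.2 * zM * (g j j.2)⁻¹ := by rw [← hm]; group
    have e' := eqc_of_pm_eq (hok i i.2) (hok j j.2)
      ((hg i i.2).trans ((congrArg Subtype.val e).trans (hg j j.2).symm))
    rw [e'] at hn
    exact Bool.noConfusion hn
  have hf : Function.Injective f := by
    intro i j he
    rcases lt_trichotomy (i : ℕ) j with h | h | h
    · exact absurd he.symm (key j i h)
    · exact Fin.ext h
    · exact absurd he (key i j h)
  have h1 : 495 ≤ C.index := by
    have := Nat.card_le_card_of_injective f hf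
    rwa [Nat.card_fin] at this
  have h2 := C.card_mul_index
  rw [Golay.card_M12] at h2
  by_contra hlt
  have : 193 * 495 ≤ Nat.card C * C.index := Nat.mul_le_mul (by omega) h1
  omega

/-- M12 with the centraliser of its central involution. -/
noncomputable def mathieuData : CentData ↥Spor.M12 where
  hom := emb
  inj := emb_injective
  range_eq := by
    refine Subgroup.eq_of_le_of_card_ge ?_ ?_
    · rintro _ ⟨x, rfl⟩
      rw [Subgroup.mem_centralizer_singleton_iff, ← map_mul, ← map_mul, mz_central]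
    · rw [← Nat.card_congr (MonoidHom.ofInjective emb_injective).toEquiv, CM.card]
      exact card_centralizer_le

theorem center_CM : ∀ x : CM, (∀ y : CM, x * y = y * x) → x = 1 ∨ x = mz := by decide +kernel

/-- A 2-central involution is conjugate to `zM`. -/
theorem exists_equiv_centralizer {u : ↥Spor.M12} (hu : IsTwoCentralInvolution u) :
    Nonempty (CM ≃* ↥(Subgroup.centralizer ({u} : Set ↥Spor.M12))) := by
  haveI : Fact (Nat.Prime 2) := ⟨Nat.prime_two⟩
  obtain ⟨hu2, P, huP, huc⟩ := hu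
  obtain ⟨g, hg⟩ := MulAction.exists_smul_eq ↥Spor.M12 P mathieuData.sylow
  have hmem : ∀ x : ↥Spor.M12, x ∈ P → g * x * g⁻¹ ∈ (mathieuData.sylow : Subgroup ↥Spor.M12) := by
    intro x hx
    rw [← hg]
    exact (Subgroup.smul_mem_pointwise_smul_iff (a := MulAut.conj g) (x := x)
      (S := (P : Subgroup ↥Spor.M12))).2 hx
  have hsurj : ∀ s : CM, inS s = true → ∃ x ∈ P, g * x * g⁻¹ = emb s := by
    intro s hs
    have hmem' : emb s ∈ ((g • P : Sylow 2 ↥Spor.M12) : Subgroup ↥Spor.M12) := by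
      rw [hg]; exact ⟨s, hs, rfl⟩
    refine ⟨g⁻¹ * emb s * g, ?_, by group⟩
    have := (Subgroup.mem_pointwise_smul_iff_inv_smul_mem
      (a := MulAut.conj g) (S := (P : Subgroup ↥Spor.M12)) (x := emb s)).1 hmem'
    show g⁻¹ * emb s * g ∈ (P : Subgroup ↥Spor.M12)
    simpa [MulAut.smul_def, mul_assoc] using this
  obtain ⟨s, hs, hse⟩ := hmem u huP
  have hse' : emb s = g * u * g⁻¹ := hse
  have hscen : ∀ y : CM, inS y = true → s * y = y * s := by
    intro y hy
    obtain ⟨x, hx, hxe⟩ := hsurj y hy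
    refine emb_injective ?_
    rw [map_mul, map_mul, hse', ← hxe]
    calc g * u * g⁻¹ * (g * x * g⁻¹) = g * (u * x) * g⁻¹ := by group
      _ = g * x * g⁻¹ * (g * u * g⁻¹) := by rw [← huc x hx]; group
  have hconj : g * u * g⁻¹ = zM := by
    rcases center_inS s hs hscen with rfl | rfl
    · rw [map_one, eq_comm, conj_eq_one_iff] at hse'
      exact absurd hse' (CfsgLib.Invol.ne_one_of_invol hu2)
    · exact hse'.symm
  have h1 : ∀ x, x ∈ Subgroup.centralizer ({zM} : Set ↥Spor.M12) →
      g⁻¹ * x * g ∈ Subgroup.centralizer ({u} : Set ↥Spor.M12) := fun x hx => by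
    rw [Subgroup.mem_centralizer_singleton_iff] at hx ⊢
    rw [← hconj] at hx
    calc g⁻¹ * x * g * u = g⁻¹ * (x * (g * u * g⁻¹)) * g := by group
      _ = u * (g⁻¹ * x * g) := by rw [hx]; group
  have hin : ∀ x : CM, g⁻¹ * emb x * g ∈ Subgroup.centralizer ({u} : Set ↥Spor.M12) := fun x =>
    h1 _ (Subgroup.mem_centralizer_singleton_iff.2 (mathieuData.comm_z x))
  refine ⟨MulEquiv.ofBijective (MonoidHom.mk' (fun x : CM => (⟨g⁻¹ * emb x * g, hin x⟩ :
      ↥(Subgroup.centralizer ({u} : Set ↥Spor.M12)))) fun x y => Subtype.ext (by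
    show g⁻¹ * emb (x * y) * g = g⁻¹ * emb x * g * (g⁻¹ * emb y * g)
    rw [map_mul]; group)) ⟨?_, ?_⟩⟩
  · intro x y e
    exact emb_injective (mul_left_cancel (mul_right_cancel (congrArg Subtype.val e)))
  · rintro ⟨x, hx⟩
    have hx' : (g * x * g⁻¹) * zM = zM * (g * x * g⁻¹) := by
      rw [← hconj]
      rw [Subgroup.mem_centralizer_singleton_iff] at hx
      calc g * x * g⁻¹ * (g * u * g⁻¹) = g * (x * u) * g⁻¹ := by group
        _ = g * u * g⁻¹ * (g * x * g⁻¹) := by rw [hx]; group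
    obtain ⟨c, hc⟩ := mathieuData.exists_of_comm hx'
    refine ⟨c, Subtype.ext ?_⟩
    show g⁻¹ * emb c * g = x
    rw [show emb c = g * x * g⁻¹ from hc]; group

end CfsgLib.M12Recog
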