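import Cfsg.Agent.Lib.M12Recog.Model

/-!
Words in the letters of the two models: the generators of the centraliser and elements of order 5 and 11.
Generated file.
-/

set_option autoImplicit false

namespace CfsgLib.M12Recog

/-- Words for model 1. -/
def genWords1 : List (List ℕ) := [[2], [4], [6]]
/-- A word of order 5. -/
def fiveWord1 : List ℕ := [0, 6, 6]
/-- A word of order 11. -/
def elevenWord1 : List ℕ := [0, 2, 0, 6]

/-- Words for model 2. -/
def genWords2 : List (List ℕ) := [[2, 4, 4], [4, 6, 4], [6, 6, 2, 4]]
/-- A word of order 5. -/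
def fiveWord2 : List ℕ := [0, 6, 6]
/-- A word of order 11. -/
def elevenWord2 : List ℕ := [0, 2, 0, 4]

end CfsgLib.M12Recog
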