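import Cfsg.Agent.Lib.M12Recog.Amalgam
import Cfsg.Agent.Lib.M12Recog.Mathieu
import Cfsg.Agent.Lib.M12Recog.Models
import Cfsg.Agent.Lib.M12Recog.Cert0
import Cfsg.Agent.Lib.M12Recog.Cert1
import Cfsg.Agent.Lib.M12Recog.Cert2
import Cfsg.Agent.Lib.M12Recog.Cert3
import Cfsg.Agent.Lib.M12Recog.Cert4
import Cfsg.Agent.Lib.M12Recog.Cert5
import Cfsg.Agent.Lib.M12Recog.Cert6
import Cfsg.Agent.Lib.M12Recog.Cert7
import Cfsg.Agent.Lib.M12Recog.Cert8
import Cfsg.Agent.Lib.M12Recog.Cert9
import Cfsg.Agent.Lib.M12Recog.Cert10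
import Cfsg.Agent.Lib.M12Recog.Cert11

/-!
A simple group with this centraliser is M12.
-/

set_option autoImplicit false
set_option maxRecDepth 100000

namespace CfsgLib.M12Recog

open Cfsg CfsgLib.CosetEnum CfsgLib.M24Elt CfsgLib.Comp

/-- The code of a word in the letters of a model. -/
noncomputable def modelWord (m : List ℕ) (l : List ℕ) : ℕ :=
  l.foldr (fun x c => PermCode.mul 24 (m.getD x 0) c) (PermCode.one 24)

/-- A model of the relators in M12. -/
noncomputable def modelCheck (m : List ℕ) (i k : ℕ) (gw : List (List ℕ)) (w5 w11 : List ℕ) : Bool :=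
  m.all inM12 && Nat.beq m.length 8 &&
  (List.range 8).all (fun x => isOne (PermCode.mul 24 (m.getD x 0) (m.getD (linv ip x) 0))) &&
  (rels i).all (fun l => isOne (modelWord m l)) &&
  subWords.all (fun l => eqc (PermCode.mul 24 (modelWord m l) (modelWord m aWord))
    (PermCode.mul 24 (modelWord m aWord) (modelWord m l))) &&
  Nat.blt k 192 && eqc (modelWord m aWord) (codeN k) && decide (lab (nth k) = 3) &&
  (List.range 3).all (fun j => eqc (modelWord m (gw.getD j [])) (codeN (gensIdx.getD j 0))) &&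
  (w5 ++ w11 ++ gw.flatten ++ aWord).all (fun x => Nat.blt x 8) &&
  !isOne (modelWord m w5) && isOne (powc (modelWord m w5) 5) &&
  !isOne (modelWord m w11) && isOne (powc (modelWord m w11) 11)

/-- The letters of a model. -/
noncomputable def mL (m : List ℕ) (h : m.all inM12 = true) (x : ℕ) : ↥Spor.M12 :=
  if hx : x < m.length then ⟨pm m[x], pm_mem_M12 (List.all_eq_true.1 h _ (List.getElem_mem hx))⟩ else 1

theorem modelWord_nil (m : List ℕ) : modelWord m [] = PermCode.one 24 := by
  unfold modelWord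
  exact List.foldr_nil

theorem modelWord_cons (m : List ℕ) (x : ℕ) (l : List ℕ) :
    modelWord m (x :: l) = PermCode.mul 24 (m.getD x 0) (modelWord m l) := by
  unfold modelWord
  exact List.foldr_cons ..

theorem pm_one_word (m : List ℕ) (h : m.all inM12 = true) :
    pm (PermCode.one 24) = (((([] : List ℕ)).map (mL m h)).prod : ↥Spor.M12) := by
  rw [pm_one]
  simp

theorem modelWord_spec (m : List ℕ) (h : m.all inM12 = true) : ∀ l : List ℕ, (∀ x ∈ l, x < m.length) →
    PermCode.Ok 24 (modelWord m l) ∧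
      pm (modelWord m l) = ((l.map (mL m h)).prod : ↥Spor.M12) := by
  intro l
  induction l with
  | nil =>
    intro _
    rw [modelWord_nil]
    exact ⟨ok_code_one, pm_one_word m h⟩
  | cons x l ih =>
    intro hl
    obtain ⟨iok, ipm⟩ := ih fun y hy => hl y (List.mem_cons_of_mem _ hy)
    have hx := hl x (List.mem_cons_self ..)
    have hg : m.getD x 0 = m[x] := List.getD_eq_getElem _ _ hx
    have xok : PermCode.Ok 24 (m.getD x 0) := by
      rw [hg]; exact ok_of_inM12 (List.all_eq_true.1 h _ (List.getElem_mem hx))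
    rw [modelWord_cons]
    refine ⟨ok_pm_mul xok iok, ?_⟩
    rw [pm_mul xok iok, ipm, List.map_cons, List.prod_cons, Subgroup.coe_mul, mL, dif_pos hx, hg]

theorem cm_closure : ∀ x : CM, x ∈ Subgroup.closure ({nth (gensIdx.getD 0 0), nth (gensIdx.getD 1 0),
    nth (gensIdx.getD 2 0)} : Set CM) := by
  rintro ⟨⟨i, hi⟩⟩
  induction i using Nat.strong_induction_on with
  | _ i ih =>
    rcases (basic_spec hi).2.2.2.2.2 with rfl | ⟨hp, hg, he⟩
    · exact Subgroup.one_mem _
    · have hm := ih (parN i) hp (by omega)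
      have hgen : (⟨⟨genN i, hg⟩⟩ : CM) ∈ ({nth (gensIdx.getD 0 0), nth (gensIdx.getD 1 0),
          nth (gensIdx.getD 2 0)} : Set CM) := by
        have : ∀ j : Fin 192, j.val ≠ 0 →
            genN j = gensIdx.getD 0 0 ∨ genN j = gensIdx.getD 1 0 ∨ genN j = gensIdx.getD 2 0 := by
          decide +kernel
        have hi0 : i ≠ 0 := by omega
        rcases this ⟨i, hi⟩ hi0 with e | e | e
        · exact Or.inl (by rw [nth, dif_pos (by rw [← e]; exact hg)]; exact congrArg CM.mk (Fin.ext e))
        · exact Or.inr (Or.inl (by rw [nth, dif_pos (by rw [← e]; exact hg)]; exact congrArg CM.mk (Fin.ext e)))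
        · exact Or.inr (Or.inr (by rw [nth, dif_pos (by rw [← e]; exact hg)]; exact congrArg CM.mk (Fin.ext e)))
      have hmul := Subgroup.mul_mem _ hm (Subgroup.subset_closure hgen)
      have e : ((⟨⟨parN i, by omega⟩⟩ : CM) * ⟨⟨genN i, hg⟩⟩) = ⟨⟨i, hi⟩⟩ := congrArg CM.mk (Fin.ext he)
      rwa [e] at hmul

/-- A homomorphism image of the model is generated by three letters. -/
theorem range_le_closure {G : Type*} [Group G] (φ : CM →* G) (L : Subgroup G)
    (h : ∀ j : Fin 3, φ (nth (gensIdx.getD j 0)) ∈ L) : φ.range ≤ L := by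
  rintro _ ⟨x, rfl⟩
  have hle : Subgroup.closure ({nth (gensIdx.getD 0 0), nth (gensIdx.getD 1 0),
      nth (gensIdx.getD 2 0)} : Set CM) ≤ L.comap φ := by
    refine (Subgroup.closure_le _).2 ?_
    rintro y (rfl | rfl | rfl)
    exacts [h 0, h 1, h 2]
  exact hle (cm_closure x)

theorem mul_card_le_of_pairs {G M : Type*} [Group G] [Group M] [Finite G] [Finite M]
    [IsSimpleGroup M] (L : Subgroup G) (K : Subgroup (G × M)) (hfst : K.map (MonoidHom.fst G M) = L)
    (hsnd : K.map (MonoidHom.snd G M) = ⊤) :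
    (Nat.card L * Nat.card M ≤ Nat.card K) ∨ Function.Injective (fun k : ↥K => (k : G × M).1) := by
  classical
  set Kn : Subgroup M := K.comap (MonoidHom.inr G M) with hKn
  have hn : Kn.Normal := ⟨fun y hy m => by
    obtain ⟨p, hp, hpm⟩ := (hsnd.symm ▸ Subgroup.mem_top m : m ∈ K.map (MonoidHom.snd G M))
    have hy' : ((1 : G), y) ∈ K := hy
    have := K.mul_mem (K.mul_mem hp hy') (K.inv_mem hp)
    have e : p * ((1 : G), y) * p⁻¹ = ((1 : G), m * y * m⁻¹) := by
      obtain ⟨p1, p2⟩ := p
      have : p2 = m := hpm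
      subst this
      simp [Prod.mk_mul_mk]
    rwa [e] at this⟩
  rcases hn.eq_bot_or_eq_top with h | h
  · right
    rintro ⟨⟨g, m⟩, hk⟩ ⟨⟨g', m'⟩, hk'⟩ e
    have e' : g = g' := e
    subst e'
    have hd := K.mul_mem (K.inv_mem hk) hk'
    simp only [Prod.inv_mk, Prod.mk_mul_mk, inv_mul_cancel] at hd
    have : m⁻¹ * m' ∈ Kn := hd
    rw [h, Subgroup.mem_bot, inv_mul_eq_one] at this
    subst this
    rfl
  · left
    have hle : (L.prod (⊤ : Subgroup M)) ≤ K := by
      rintro ⟨g, m⟩ ⟨hg, -⟩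
      obtain ⟨⟨g', m'⟩, hp, rfl⟩ := (hfst.symm ▸ hg : g ∈ K.map (MonoidHom.fst G M))
      have h1 : ((1 : G), m'⁻¹ * m) ∈ K := (h.symm ▸ Subgroup.mem_top (m'⁻¹ * m) : m'⁻¹ * m ∈ Kn)
      have := K.mul_mem hp h1
      simpa using this
    have := Subgroup.card_le_of_le hle
    rwa [Nat.card_congr (Subgroup.prodEquiv L ⊤).toEquiv, Nat.card_prod, Subgroup.card_top] at this

theorem card_conj_cent {G : Type*} [Group G] {a b : G} (h : IsConj a b) :
    Nat.card (Subgroup.centralizer ({b} : Set G)) = Nat.card (Subgroup.centralizer ({a} : Set G)) := by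
  obtain ⟨g, rfl⟩ := isConj_iff.1 h
  refine (Nat.card_congr (Equiv.subtypeEquiv (MulAut.conj g).toEquiv fun y => ?_)).symm
  simp only [Subgroup.mem_centralizer_singleton_iff, MulEquiv.toEquiv_eq_coe, MulEquiv.coe_toEquiv,
    MulAut.conj_apply]
  exact (Commute.conj_iff g).symm

theorem noncomm_M12 : ¬ IsMulCommutative ↥Spor.M12 := fun h => by
  have h1 : emb mq * emb mr = emb mr * emb mq := h.is_comm.comm _ _
  rw [← map_mul, ← map_mul] at h1
  exact (show ¬ mq * mr = mr * mq by decide +kernel) (emb_injective h1)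

variable {G : Type*} [Group G] [Finite G] [IsSimpleGroup G] (D : CentData G)

/-- No candidate with a collapsing enumeration occurs. -/
theorem collapse (S : Shape D 5 z5 q5 r5) {i : ℕ}
    (hrel : ∀ l ∈ rels i, (∀ x ∈ l, x < 16) ∧ (l.map (S.let_ D)).prod = 1)
    (c : Letters.Cert) (hc : c.check ip 8 subC (rels i) = true) (hn : c.n = 1) : False := by
  set H := D.hom.range with hH
  have hmem : ∀ x, 2 ≤ x → S.let_ D x ∈ H := fun x hx => by
    rw [Shape.let_, if_neg (by omega), if_neg (by omega)]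
    exact ⟨_, rfl⟩
  have hcov := Letters.Cert.covers (g := S.let_ D) (ip := ip) (nl := 8)
    (by simp [Shape.let_, mlet]) (fun x hx => S.let_linv D x hx)
    (fun x hx => by
      rcases Nat.lt_or_ge x 8 with h | h
      · exact Or.inl h
      · right; interval_cases x <;> simp [Shape.let_, mlet])
    (Subgroup.closure (S.let_ D '' Set.Iio 16)) H le_rfl c (sub := subC) (ls := rels i) hc hrel
    (fun l hl => by
      simp only [subC, List.mem_cons, List.not_mem_nil, or_false] at hl
      rcases hl with rfl | rfl | rfl <;>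
        exact ⟨by simp, by simpa using hmem _ (by norm_num)⟩)
  obtain ⟨u, hu⟩ := hcov
  rw [hn] at hu
  have hy : S.y ∈ H := by
    have hy16 : S.y ∈ Subgroup.closure (S.let_ D '' Set.Iio 16) :=
      Subgroup.subset_closure ⟨0, by simp, by simp [Shape.let_]⟩
    obtain ⟨k, hk, h1⟩ := hu _ hy16
    obtain ⟨k', hk', h2⟩ := hu 1 (Subgroup.one_mem _)
    obtain rfl : k = k' := by omega
    rw [one_mul] at h2
    simpa using H.mul_mem h1 (H.inv_mem h2)
  obtain ⟨x, hx⟩ := hy
  have h := S.z_inv_y D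
  rw [← hx, ← D.comm_z x, mul_inv_cancel_right, hx, eq_inv_iff_mul_eq_one] at h
  refine S.y_ne_one D ?_
  have h3 := S.y_pow_three D
  rwa [pow_succ, pow_two, h, one_mul] at h3

/-- The identification from a model. -/
theorem identify (hG : ¬ IsMulCommutative G) (S : Shape D 5 z5 q5 r5) {i k : ℕ} (m : List ℕ)
    (gw : List (List ℕ)) (w5 w11 : List ℕ) (hm : modelCheck m i k gw w5 w11 = true)
    (hrel : ∀ l ∈ rels i, (∀ x ∈ l, x < 16) ∧ (l.map (S.let_ D)).prod = 1)
    (c : Letters.Cert) (hc : c.check ip 8 subWords (rels i) = true) (hn : c.n = 396) :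
    Nonempty (G ≃* ↥Spor.M12) := by
  classical
  haveI := Golay.isSimple_M12
  simp only [modelCheck, Bool.and_eq_true, Bool.not_eq_true', decide_eq_true_eq, List.all_eq_true] at hm
  obtain ⟨⟨⟨⟨⟨⟨⟨⟨⟨⟨⟨⟨⟨hall, hlen⟩, hinv⟩, hrels⟩, hsub⟩, hk⟩, hak⟩, hk3⟩, hgw⟩, hlt⟩, h5⟩, h5'⟩, h11⟩, h11'⟩ := hm
  have hlen8 : m.length = 8 := Nat.eq_of_beq_eq_true hlen
  have hall' : m.all inM12 = true := List.all_eq_true.2 hall
  set gM := mL m hall' with hgM
  have val : ∀ l : List ℕ, (∀ x ∈ l, x < 8) → PermCode.Ok 24 (modelWord m l) ∧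
      pm (modelWord m l) = ((l.map gM).prod : ↥Spor.M12) := fun l hl =>
    modelWord_spec m hall' l fun x hx => by rw [hlen8]; exact hl x hx
  have one8 : ∀ x, 8 ≤ x → gM x = 1 := fun x hx => dif_neg (by omega)
  simp only [Nat.blt_eq] at hk hlt
  have hsub8 : ∀ l ∈ subWords, ∀ x ∈ l, x < 8 := by decide
  have hrel8 : ∀ l ∈ rels i, ∀ x ∈ l, x < 8 := by
    intro l hl x hx
    simp only [rels, List.mem_append, List.mem_singleton] at hl
    have hC : ∀ l ∈ relC ++ relY ++ relS, ∀ x ∈ l, x < 8 := by decide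
    have hG : ∀ l ∈ relG, ∀ x ∈ l, x < 8 := by decide +kernel
    rcases hl with hl | rfl
    · exact hC l (by simp only [List.mem_append]; exact hl) x hx
    · rcases Nat.lt_or_ge i relG.length with h | h
      · rw [List.getD_eq_getElem _ _ h] at hx; exact hG _ (List.getElem_mem h) x hx
      · rw [List.getD_eq_default _ _ h] at hx; exact absurd hx (List.not_mem_nil)
  have hlinvM : ∀ x < 16, gM (linv ip x) = (gM x)⁻¹ := by
    intro x hx
    rcases Nat.lt_or_ge x 8 with h | h
    · have h2 := hinv x (List.mem_range.2 h)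
      have hl' : linv ip x < 8 := by interval_cases x <;> decide
      have hv := val [x, linv ip x] (by simp [h, hl'])
      have hok := hv.1
      have e1 : modelWord m [x, linv ip x] =
          PermCode.mul 24 (m.getD x 0) (PermCode.mul 24 (m.getD (linv ip x) 0) (PermCode.one 24)) := by
        rw [modelWord_cons, modelWord_cons, modelWord_nil]
      have okx : ∀ {t}, t < 8 → PermCode.Ok 24 (m.getD t 0) := fun {t} ht => by
        rw [List.getD_eq_getElem _ _ (by omega)]
        exact ok_of_inM12 (hall _ (List.getElem_mem _))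
      refine eq_inv_of_mul_eq_one_right (Subtype.ext ?_)
      have := hv.2
      rw [e1, pm_mul (okx h) (ok_pm_mul (okx hl') ok_code_one), pm_mul (okx hl') ok_code_one, pm_one, mul_one,
        ← pm_mul (okx h) (okx hl'), pm_eq_one (ok_pm_mul (okx h) (okx hl')) h2] at this
      simpa using this.symm
    · have : 8 ≤ linv ip x := by interval_cases x <;> decide
      rw [one8 x h, one8 _ this, inv_one]
  let g : ℕ → G × ↥Spor.M12 := fun x => (S.let_ D x, gM x)
  have fstp : ∀ l : List ℕ, ((l.map g).prod).1 = (l.map (S.let_ D)).prod := fun l => by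
    rw [← MonoidHom.coe_fst, map_list_prod, List.map_map]; rfl
  have sndp : ∀ l : List ℕ, ((l.map g).prod).2 = (l.map gM).prod := fun l => by
    rw [← MonoidHom.coe_snd, map_list_prod, List.map_map]; rfl
  have hrelM : ∀ l ∈ rels i, (l.map gM).prod = 1 := fun l hl => Subtype.ext (by
    obtain ⟨hok, hv⟩ := val l (hrel8 l hl)
    rw [← hv]
    exact pm_eq_one hok (hrels l hl))
  -- the element `a` of the model
  set aM := (aWord.map gM).prod with haM
  obtain ⟨hAok, hAv⟩ := val aWord (by decide)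
  have haM' : aM = emb (CM.ofNat k hk) := Subtype.ext (by
    rw [haM, ← hAv]
    exact pm_eq_of_eqc hAok (ok_of_inM12 (basic_spec hk).1) hak)
  have hlabk : lab (CM.ofNat k hk) = 3 := by rwa [nth, dif_pos hk] at hk3
  have hCa : Nat.card (Subgroup.centralizer ({aM} : Set ↥Spor.M12)) = 240 := by
    obtain ⟨SM⟩ := mathieuData.shape_five noncomm_M12
    have hconj : IsConj mathieuData.a aM := haM' ▸ mathieuData.isConj_a_three hlabk
    rw [card_conj_cent hconj, SM.card_cent_a]
    rfl
  set H : Subgroup (G × ↥Spor.M12) :=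
    (Subgroup.centralizer ({D.a} : Set G)).prod (Subgroup.centralizer ({aM} : Set ↥Spor.M12)) with hH
  have hsubG : ∀ l ∈ subWords, (l.map (S.let_ D)).prod * D.a = D.a * (l.map (S.let_ D)).prod := by
    intro l hl
    have key : ∀ w : List ℕ, onlyC w = true → ((w.map mlet).prod * ma = ma * (w.map mlet).prod) →
        (w.map (S.let_ D)).prod * D.a = D.a * (w.map (S.let_ D)).prod := fun w hw hc => by
      rw [S.prod_onlyC D hw, CentData.a, ← map_mul, ← map_mul, hc]
    simp only [subWords, List.mem_cons, List.not_mem_nil, or_false] at hl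
    rcases hl with rfl | rfl | rfl | rfl | rfl
    · simpa [Shape.let_] using (S.y_comm D).1
    all_goals exact key _ (by decide) (by decide +kernel)
  have hcov := Letters.Cert.covers (g := g) (ip := ip) (nl := 8)
    (Prod.ext (by simp [g, Shape.let_, mlet]) (one8 15 (by norm_num)))
    (fun x hx => Prod.ext (S.let_linv D x hx) (hlinvM x hx))
    (fun x hx => by
      rcases Nat.lt_or_ge x 8 with h | h
      · exact Or.inl h
      · exact Or.inr (Prod.ext (by interval_cases x <;> simp [g, Shape.let_, mlet]) (one8 x h)))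
    (Subgroup.closure (g '' Set.Iio 16)) H le_rfl c (sub := subWords) (ls := rels i) hc
    (fun l hl => ⟨(hrel l hl).1, Prod.ext (by rw [fstp]; exact (hrel l hl).2) (by rw [sndp]; exact hrelM l hl)⟩)
    (fun l hl => by
      refine ⟨fun x hx => (hsub8 l hl x hx).trans (by norm_num), ?_⟩
      rw [hH, Subgroup.mem_prod, fstp, sndp, Subgroup.mem_centralizer_singleton_iff,
        Subgroup.mem_centralizer_singleton_iff]
      refine ⟨hsubG l hl, ?_⟩
      obtain ⟨hok, hv⟩ := val l (hsub8 l hl)
      apply Subtype.ext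
      rw [Subgroup.coe_mul, Subgroup.coe_mul, ← hv, haM, ← hAv, ← pm_mul hok hAok, ← pm_mul hAok hok]
      exact pm_eq_of_eqc (ok_pm_mul hok hAok) (ok_pm_mul hAok hok) (hsub l hl))
  set K := Subgroup.closure (g '' Set.Iio 16) with hK
  have hKle : Nat.card K ≤ 396 * (240 * 240) := by
    have h := hcov.card_le.2
    rw [hn, hH, Nat.card_congr (Subgroup.prodEquiv _ _).toEquiv, Nat.card_prod, S.card_cent_a, hCa] at h
    exact h
  -- the projections
  set LM := Subgroup.closure (gM '' Set.Iio 16) with hLM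
  have memLM : ∀ l : List ℕ, (∀ x ∈ l, x < 8) → (l.map gM).prod ∈ LM := fun l hl =>
    list_prod_mem fun y hy => by
      obtain ⟨x, hx, rfl⟩ := List.mem_map.1 hy
      exact Subgroup.subset_closure ⟨x, (hl x hx).trans (by norm_num : 8 < 16), rfl⟩
  have hembLM : emb.range ≤ LM := range_le_closure emb LM fun j => by
    have e := hgw j (List.mem_range.2 j.2)
    have hl8 : ∀ x ∈ gw.getD j [], x < 8 := fun x hx => by
      rcases Nat.lt_or_ge (j : ℕ) gw.length with h | h
      · rw [List.getD_eq_getElem _ _ h] at hx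
        exact hlt x (by simp only [List.mem_append, List.mem_flatten]; exact Or.inl (Or.inr ⟨_, List.getElem_mem h, hx⟩))
      · rw [List.getD_eq_default _ _ h] at hx; exact absurd hx (List.not_mem_nil)
    obtain ⟨hok, hv⟩ := val _ hl8
    have hj192 : gensIdx.getD j 0 < 192 := by fin_cases j <;> decide
    have : emb (nth (gensIdx.getD j 0)) = ((gw.getD j []).map gM).prod := Subtype.ext (by
      rw [nth, dif_pos hj192, emb_coe, ← hv]
      exact pm_eq_of_eqc (ok_of_inM12 (basic_spec hj192).1) hok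
        ((fun {a b : ℕ} (h : eqc a b = true) (ha : PermCode.Ok 24 a) (hb : PermCode.Ok 24 b) =>
          eqc_of_pm_eq hb ha (pm_eq_of_eqc ha hb h).symm) e hok (ok_of_inM12 (basic_spec hj192).1)))
    rw [this]
    exact memLM _ hl8
  have hordLM : ∀ (w : List ℕ) (p : ℕ) [Fact p.Prime], (∀ x ∈ w, x < 8) → isOne (modelWord m w) = false →
      isOne (powc (modelWord m w) p) = true → p ∣ Nat.card LM := by
    intro w p _ hw h1 h2
    obtain ⟨hok, hv⟩ := val w hw
    have ho : orderOf ((w.map gM).prod) = p := by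
      rw [← orderOf_injective Spor.M12.subtype Spor.M12.subtype_injective]
      show orderOf (((w.map gM).prod : ↥Spor.M12) : Equiv.Perm GolayPt) = p
      rw [← hv]
      exact orderOf_pm hok h2 h1
    exact ho ▸ Subgroup.orderOf_dvd_natCard _ (memLM w hw)
  have hLMtop : LM = ⊤ := by
    have h192 : 192 ∣ Nat.card LM := by
      rw [← CM.card, Nat.card_congr (MonoidHom.ofInjective emb_injective).toEquiv]
      exact Subgroup.card_dvd_of_le hembLM
    haveI : Fact (Nat.Prime 5) := ⟨by norm_num⟩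
    haveI : Fact (Nat.Prime 11) := ⟨by norm_num⟩
    have d5 := hordLM w5 5 (fun x hx => hlt x (by simp [hx])) h5 h5'
    have d11 := hordLM w11 11 (fun x hx => hlt x (by simp [hx])) h11 h11'
    have hall : 10560 ∣ Nat.card LM := by
      have := Nat.Coprime.mul_dvd_of_dvd_of_dvd (by norm_num : Nat.Coprime 192 55) h192
        (Nat.Coprime.mul_dvd_of_dvd_of_dvd (by norm_num : Nat.Coprime 5 11) d5 d11)
      simpa using this
    by_contra hne
    obtain ⟨q, hq⟩ := hall
    have hmul := LM.card_mul_index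
    rw [Golay.card_M12, hq] at hmul
    have hidx : LM.index ∣ 9 := ⟨q, by nlinarith⟩
    have h9 := Nat.le_of_dvd (by norm_num) hidx
    have hker : (MulAction.toPermHom ↥Spor.M12 (↥Spor.M12 ⧸ LM)).ker = ⊥ := by
      rcases (MulAction.toPermHom ↥Spor.M12 (↥Spor.M12 ⧸ LM)).normal_ker.eq_bot_or_eq_top with e | e
      · exact e
      · exfalso
        have hle : (MulAction.toPermHom ↥Spor.M12 (↥Spor.M12 ⧸ LM)).ker ≤ LM := by
          rw [← Subgroup.normalCore_eq_ker]; exact Subgroup.normalCore_le LM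
        rw [e, top_le_iff] at hle
        exact hne hle
    have hd := Subgroup.card_dvd_of_injective _ ((MonoidHom.ker_eq_bot_iff _).1 hker)
    rw [Nat.card_perm, Golay.card_M12, show Nat.card (↥Spor.M12 ⧸ LM) = LM.index from rfl] at hd
    interval_cases h : LM.index <;> norm_num [Nat.factorial] at hd
  set L := Subgroup.closure (S.let_ D '' Set.Iio 16) with hL
  have hfst : K.map (MonoidHom.fst G ↥Spor.M12) = L := by
    rw [hK, MonoidHom.map_closure, ← Set.image_comp]; rfl
  have hsnd : K.map (MonoidHom.snd G ↥Spor.M12) = ⊤ := by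
    rw [hK, MonoidHom.map_closure, ← Set.image_comp]; exact hLMtop
  have h192 : 192 ∣ Nat.card L := by
    rw [← CM.card, Nat.card_congr (MonoidHom.ofInjective D.inj).toEquiv]
    refine Subgroup.card_dvd_of_le (range_le_closure D.hom L fun j => ?_)
    have : D.hom (nth (gensIdx.getD j 0)) = S.let_ D (2 + 2 * (j : ℕ)) := by
      fin_cases j <;> simp [Shape.let_, mlet]
    rw [this]
    exact Subgroup.subset_closure ⟨_, by simp; omega, rfl⟩
  have h5L : 5 ∣ Nat.card L := by
    have e5 : ((([0, 4] : List ℕ).map plet).prod) ^ 5 = 1 ∧ (([0, 4] : List ℕ).map plet).prod ≠ 1 := by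
      decide +kernel
    have hp := S.prod_flatMap D (l := [0, 4]) (by simp)
    have ho : orderOf (S.hom ((([0, 4] : List ℕ).map plet).prod)) = 5 := by
      haveI : Fact (Nat.Prime 5) := ⟨by norm_num⟩
      rw [orderOf_injective S.hom S.inj]
      exact orderOf_eq_prime e5.1 e5.2
    rw [← ho]
    refine Subgroup.orderOf_dvd_natCard _ ?_
    rw [← hp]
    refine list_prod_mem fun y hy => ?_
    obtain ⟨x, hx, rfl⟩ := List.mem_map.1 hy
    have : ∀ x ∈ ([0, 4] : List ℕ).flatMap (fun v => sub5.getD v []), x < 16 := by decide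
    exact Subgroup.subset_closure ⟨x, this x hx, rfl⟩
  have h960 : 960 ≤ Nat.card L := by
    have := Nat.le_of_dvd Nat.card_pos (Nat.Coprime.mul_dvd_of_dvd_of_dvd (by norm_num : Nat.Coprime 192 5) h192 h5L)
    omega
  rcases mul_card_le_of_pairs L K hfst hsnd with hbig | hinj
  · rw [Golay.card_M12] at hbig
    omega
  have hle : Nat.card K ≤ Nat.card G := Nat.card_le_card_of_injective _ hinj
  have hsurj : Function.Surjective (fun k : ↥K => (k : G × ↥Spor.M12).2) := fun y => by
    obtain ⟨p, hp, rfl⟩ := (hsnd.symm ▸ Subgroup.mem_top y : y ∈ K.map (MonoidHom.snd G ↥Spor.M12))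
    exact ⟨⟨p, hp⟩, rfl⟩
  have hge : Nat.card ↥Spor.M12 ≤ Nat.card K := Nat.card_le_card_of_surjective _ hsurj
  have hGc := D.card_eq hG
  have hMc := Golay.card_M12
  let f1 : ↥K →* G := (MonoidHom.fst G ↥Spor.M12).comp K.subtype
  let f2 : ↥K →* ↥Spor.M12 := (MonoidHom.snd G ↥Spor.M12).comp K.subtype
  have hb1 : Function.Bijective f1 := (Nat.bijective_iff_injective_and_card f1).2 ⟨hinj, by omega⟩
  have hb2 : Function.Bijective f2 := (Nat.bijective_iff_surjective_and_card f2).2 ⟨hsurj, by omega⟩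
  exact ⟨(MulEquiv.ofBijective f1 hb1).symm.trans (MulEquiv.ofBijective f2 hb2)⟩

end CfsgLib.M12Recog
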