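import Cfsg.Agent.Lib.M12Recog.Identify

/-!
Recognition of M12 by the centraliser of a 2-central involution.
-/

set_option autoImplicit false
set_option maxRecDepth 100000

namespace CfsgLib.M12Recog

open Cfsg

theorem model1_ok : modelCheck model1 1 157 genWords1 fiveWord1 elevenWord1 = true := by
  decide +kernel

theorem model2_ok : ∃ k, modelCheck model2 2 k genWords2 fiveWord2 elevenWord2 = true := ⟨115, by decide +kernel⟩

theorem recognition {G : Type*} [Group G] [Finite G] [IsSimpleGroup G] (hG : ¬ IsMulCommutative G)
    (u : ↥Spor.M12) (hu : IsTwoCentralInvolution u) (t : G) (ht : orderOf t = 2)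
    (e : ↥(Subgroup.centralizer ({t} : Set G)) ≃* ↥(Subgroup.centralizer ({u} : Set ↥Spor.M12))) :
    Spor.IsoM12 G := by
  obtain ⟨f⟩ := exists_equiv_centralizer hu
  let ψ : CM ≃* ↥(Subgroup.centralizer ({t} : Set G)) := f.trans e.symm
  let φ : CM →* G := (Subgroup.centralizer ({t} : Set G)).subtype.comp ψ.toMonoidHom
  have hrange : φ.range = Subgroup.centralizer ({t} : Set G) := by
    ext g
    constructor
    · rintro ⟨x, rfl⟩; exact (ψ x).2
    · intro hg; exact ⟨ψ.symm ⟨g, hg⟩, by simp [φ]⟩
  have ht' : φ mz = t := by
    have htm : t ∈ Subgroup.centralizer ({t} : Set G) := Subgroup.mem_centralizer_singleton_iff.2 rfl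
    set x := ψ.symm ⟨t, htm⟩ with hx
    have hxe : φ x = t := by simp [φ, hx]
    have hc : ∀ y : CM, x * y = y * x := by
      intro y
      have hy : φ y * t = t * φ y := Subgroup.mem_centralizer_singleton_iff.1 (ψ y).2
      refine ψ.injective (Subtype.ext ?_)
      show φ (x * y) = φ (y * x)
      rw [map_mul, map_mul, hxe, hy]
    rcases center_CM x hc with h | h
    · rw [h, map_one] at hxe
      rw [← hxe, orderOf_one] at ht
      omega
    · rw [← h, hxe]
  let D : CentData G :=
    { hom := φ
      inj := (Subgroup.centralizer ({t} : Set G)).subtype_injective.comp ψ.injective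
      range_eq := by rw [hrange, ht'] }
  obtain ⟨S⟩ := D.shape_five hG
  obtain ⟨i, hi⟩ := S.exists_rels D (D.fused hG) (D.card_eq hG)
  fin_cases i
  · exact (collapse D S hi Cert0.cert Cert0.check rfl).elim
  · exact identify D hG S model1 genWords1 fiveWord1 elevenWord1 model1_ok hi Cert1.cert Cert1.check rfl
  · obtain ⟨k, hk⟩ := model2_ok
    exact identify D hG S model2 genWords2 fiveWord2 elevenWord2 hk hi Cert2.cert Cert2.check rfl
  · exact (collapse D S hi Cert3.cert Cert3.check rfl).elim
  · exact (collapse D S hi Cert4.cert Cert4.check rfl).elim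
  · exact (collapse D S hi Cert5.cert Cert5.check rfl).elim
  · exact (collapse D S hi Cert6.cert Cert6.check rfl).elim
  · exact (collapse D S hi Cert7.cert Cert7.check rfl).elim
  · exact (collapse D S hi Cert8.cert Cert8.check rfl).elim
  · exact (collapse D S hi Cert9.cert Cert9.check rfl).elim
  · exact (collapse D S hi Cert10.cert Cert10.check rfl).elim
  · exact (collapse D S hi Cert11.cert Cert11.check rfl).elim

end CfsgLib.M12Recog
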