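import Cfsg.Agent.Lib.M12Recog.Check

/-!
The centraliser of a 2-central involution of M12 as an explicit group of 192 elements.
-/

set_option autoImplicit false
set_option maxRecDepth 10000
set_option maxHeartbeats 100000

namespace CfsgLib.M12Recog

open Cfsg CfsgLib.CosetEnum CfsgLib.M24Elt CfsgLib.Comp CfsgLib.Golay
open scoped Pointwise

theorem basic_spec {i : ℕ} (hi : i < 192) :
    inM12 (codeN i) = true ∧ invN i < 192 ∧ mulN (invN i) i = 0 ∧ mulN i 0 = i ∧ mulN 0 i = i ∧
      (i = 0 ∨ (parN i < i ∧ genN i < 192 ∧ mulN (parN i) (genN i) = i)) := by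
  have h := basic_ok
  simp only [basicCheck, Bool.and_eq_true] at h
  have h' := PermCode.allLt_spec h.1.1 i hi
  simp only [Bool.and_eq_true, Bool.or_eq_true, Nat.blt_eq] at h'
  obtain ⟨⟨⟨⟨⟨a, b⟩, c⟩, d⟩, e⟩, f⟩ := h'
  refine ⟨a, b, Nat.eq_of_beq_eq_true c, Nat.eq_of_beq_eq_true d, Nat.eq_of_beq_eq_true e,
    f.imp Nat.eq_of_beq_eq_true fun f' => ⟨f'.1.1, f'.1.2, Nat.eq_of_beq_eq_true f'.2⟩⟩

theorem tree_spec {i j : ℕ} (hi : i < 192) (hj : j < 192) :
    mulN i j < 192 ∧ (j = 0 ∨ mulN i j = mulN (mulN i (parN j)) (genN j)) := by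
  have h := PermCode.allLt_spec (PermCode.allLt_spec tree_ok j hj) i hi
  simp only [Bool.and_eq_true, Bool.or_eq_true, Nat.blt_eq] at h
  exact ⟨h.1, h.2.imp Nat.eq_of_beq_eq_true Nat.eq_of_beq_eq_true⟩

theorem pm_mulN {i j : ℕ} (hi : i < 192) (hj : j < 192) :
    pm (codeN (mulN i j)) = pm (codeN i) * pm (codeN j) := by
  have h := basic_ok
  simp only [basicCheck, Bool.and_eq_true, List.all_eq_true] at h
  have gstep : ∀ g ∈ gensIdx, ∀ k < 192, pm (codeN (mulN k g)) = pm (codeN k) * pm (codeN g) := by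
    intro g hg k hk
    obtain ⟨hg', hh⟩ := h.2 g hg
    rw [Nat.blt_eq] at hg'
    rw [← pm_mul (ok_of_inM12 (basic_spec hk).1) (ok_of_inM12 (basic_spec hg').1)]
    exact pm_eq_of_eqc (ok_of_inM12 (basic_spec (tree_spec hk hg').1).1)
      (ok_pm_mul (ok_of_inM12 (basic_spec hk).1) (ok_of_inM12 (basic_spec hg').1))
      (PermCode.allLt_spec hh k hk)
  have gmem : ∀ k, genN k ∈ gensIdx ∨ genN k = 0 := by
    intro k
    rw [genN_def]
    rcases Nat.lt_or_ge ((genTab >>> (4 * k)) &&& 15) gensIdx.length with hlt | hge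
    · left; rw [List.getD_eq_getElem _ _ hlt]; exact List.getElem_mem _
    · right; rw [List.getD_eq_default _ _ hge]
  have one : pm (codeN 0) = 1 := pm_eq_one (ok_of_inM12 (basic_spec (by norm_num)).1) h.1.2
  have step : ∀ k l, k < 192 → pm (codeN (mulN k (genN l))) = pm (codeN k) * pm (codeN (genN l)) := by
    intro k l hk
    rcases gmem l with hg | hg
    · exact gstep _ hg k hk
    · rw [hg, (basic_spec hk).2.2.2.1, one, mul_one]
  revert hj
  induction j using Nat.strong_induction_on with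
  | _ j ih =>
    intro hj
    rcases (basic_spec hj).2.2.2.2.2 with h0 | ⟨hp, hg, he⟩
    · subst h0
      rw [(basic_spec hi).2.2.2.1, one, mul_one]
    · rcases (tree_spec hi hj).2 with h0 | ht
      · omega
      · have hp' : parN j < 192 := by omega
        rw [ht, step _ _ (tree_spec hi hp').1, ih _ hp hp', mul_assoc, ← step _ _ hp', he]

theorem pm_codeN_injective {i j : ℕ} (hi : i < 192) (hj : j < 192) (h : pm (codeN i) = pm (codeN j)) :
    i = j := by
  have key : ∀ i < 192, ∀ j < i, pm (codeN i) ≠ pm (codeN j) := by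
    intro i hi j hj e
    have hd := PermCode.allLt_spec (PermCode.allLt_spec distinct_ok i hi) j hj
    rw [eqc_of_pm_eq (ok_of_inM12 (basic_spec hi).1) (ok_of_inM12 (basic_spec (hj.trans hi)).1) e] at hd
    exact Bool.noConfusion hd
  rcases lt_trichotomy i j with hlt | he | hgt
  · exact absurd h.symm (key j hj i hlt)
  · exact he
  · exact absurd h (key i hi j hgt)

/-- The model of the centraliser. -/
structure CM : Type where
  /-- the index -/
  i : Fin 192
deriving DecidableEq

instance : Fintype CM :=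
  Fintype.ofEquiv (Fin 192) ⟨CM.mk, CM.i, fun _ => rfl, fun _ => rfl⟩

/-- An element by its index. -/
def CM.ofNat (n : ℕ) (h : n < 192 := by decide) : CM := ⟨⟨n, h⟩⟩

/-- The permutation of an element of the model. -/
noncomputable def CM.perm (x : CM) : Equiv.Perm GolayPt := pm (codeN x.i)

theorem CM.perm_injective : Function.Injective CM.perm := by
  rintro ⟨⟨i, hi⟩⟩ ⟨⟨j, hj⟩⟩ h
  have := pm_codeN_injective hi hj h
  subst this
  rfl

noncomputable instance : Mul CM := ⟨fun x y => ⟨⟨mulN x.i y.i, (tree_spec x.i.2 y.i.2).1⟩⟩⟩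
noncomputable instance : One CM := ⟨⟨⟨0, by norm_num⟩⟩⟩
noncomputable instance : Inv CM := ⟨fun x => ⟨⟨invN x.i, (basic_spec x.i.2).2.1⟩⟩⟩

noncomputable instance : Group CM :=
  Group.ofLeftAxioms
    (fun x y w => CM.perm_injective (by
      show pm (codeN (mulN (mulN x.i y.i) w.i)) = pm (codeN (mulN x.i (mulN y.i w.i)))
      rw [pm_mulN (tree_spec x.i.2 y.i.2).1 w.i.2, pm_mulN x.i.2 y.i.2, pm_mulN x.i.2 (tree_spec y.i.2 w.i.2).1,
        pm_mulN y.i.2 w.i.2, mul_assoc]))
    (fun x => congrArg CM.mk (Fin.ext (basic_spec x.i.2).2.2.2.2.1))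
    (fun x => congrArg CM.mk (Fin.ext (basic_spec x.i.2).2.2.1))

theorem CM.perm_mul (x y : CM) : (x * y).perm = x.perm * y.perm := pm_mulN x.i.2 y.i.2

theorem CM.card : Nat.card CM = 192 := by
  rw [Nat.card_congr (⟨CM.i, CM.mk, fun _ => rfl, fun _ => rfl⟩ : CM ≃ Fin 192), Nat.card_fin]

/-- The embedding of the model into M12. -/
noncomputable def emb : CM →* ↥Spor.M12 :=
  MonoidHom.mk' (fun x => ⟨x.perm, pm_mem_M12 (basic_spec x.i.2).1⟩) fun x y =>
    Subtype.ext (CM.perm_mul x y)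

theorem emb_coe (x : CM) : ((emb x : ↥Spor.M12) : Equiv.Perm GolayPt) = x.perm := rfl

theorem emb_injective : Function.Injective emb := fun _ _ h =>
  CM.perm_injective (congrArg Subtype.val h)

end CfsgLib.M12Recog
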