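import Cfsg.Agent.Lib.M12Recog.Counts
import Cfsg.Agent.S0213

/-!
The order: 95040.
-/

set_option autoImplicit false
set_option maxRecDepth 100000

namespace CfsgLib.M12Recog

open Equiv

/-- An involution in the cyclic group of a product of two involutions commutes with both. -/
theorem commute_of_mem_zpowers {G : Type*} [Group G] {u v w : G} (hu : u * u = 1) (hv : v * v = 1)
    (hw : w * w = 1) (h : w ∈ Subgroup.zpowers (u * v)) : u * w = w * u ∧ v * w = w * v := by
  obtain ⟨k, hk⟩ := Subgroup.mem_zpowers_iff.1 h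
  have hinv : w⁻¹ = w := inv_eq_of_mul_eq_one_right hw
  have key : u * w * u⁻¹ = w := by
    have hc : u * (u * v) * u⁻¹ = (u * v)⁻¹ := by
      rw [mul_inv_rev, inv_eq_of_mul_eq_one_right hu, inv_eq_of_mul_eq_one_right hv]
      calc u * (u * v) * u = u * u * (v * u) := by group
        _ = v * u := by rw [hu, one_mul]
    conv_lhs => rw [← hk, ← conj_zpow, hc, inv_zpow, hk, hinv]
  have key' : u * w = w * u := mul_inv_eq_iff_eq_mul.1 key
  refine ⟨key', ?_⟩
  have h1 : Commute (u * v) w := hk ▸ (Commute.refl (u * v)).zpow_right k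
  calc v * w = u * u * (v * w) := by rw [hu, one_mul]
    _ = u * ((u * v) * w) := by group
    _ = u * (w * (u * v)) := by rw [h1.eq]
    _ = (u * w) * (u * v) := by group
    _ = w * u * (u * v) := by rw [key']
    _ = w * (u * u) * v := by group
    _ = w * v := by rw [hu, mul_one]

variable {G : Type*} [Group G] [Finite G] (D : CentData G)

/-- The count of pairs for an involution whose centraliser lies in that of `z`. -/
theorem CentData.card_pairs {w : CM} (hw : w * w = 1)
    (hsub : ∀ g : G, g * D.hom w = D.hom w * g → g * D.z = D.z * g) (pK pA : List ℕ)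
    (hK : ∀ x : CM, lab x ≠ 0 → (IsConj D.z (D.hom x) ↔ lab x ∈ pK))
    (hA : ∀ x : CM, lab x ≠ 0 → (IsConj D.a (D.hom x) ↔ lab x ∈ pA)) (hK0 : 0 ∉ pK) (hA0 : 0 ∉ pA) :
    Nat.card {p : G × G // IsConj D.z p.1 ∧ IsConj D.a p.2 ∧ D.hom w ∈ Subgroup.zpowers (p.1 * p.2)} =
      pairCount w pK pA := by
  classical
  have hinv : ∀ {c g : G}, orderOf c = 2 → IsConj c g → orderOf g = 2 := fun hc h =>
    CfsgLib.Invol.orderOf_eq_two_of_isConj hc h
  have hao : orderOf D.a = 2 := D.orderOf_invol (by rw [lab_facts.2.2.2.2.1]; norm_num)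
  have hdec : pairCount w pK pA =
      Nat.card {p : CM × CM // lab p.1 ∈ pK ∧ lab p.2 ∈ pA ∧ InPow w (p.1 * p.2)} := by
    rw [Nat.card_eq_fintype_card, Fintype.card_subtype, pairCount, Finset.card_eq_sum_ones,
      Finset.sum_filter, Fintype.sum_prod_type]
    refine Finset.sum_congr rfl fun u _ => ?_
    by_cases hu : lab u ∈ pK <;> simp [hu, Finset.sum_filter]
  rw [hdec]
  symm
  refine Nat.card_eq_of_bijective (fun p => ⟨(D.hom p.1.1, D.hom p.1.2),
    (hK _ (fun h => hK0 (h ▸ p.2.1))).2 p.2.1, (hA _ (fun h => hA0 (h ▸ p.2.2.1))).2 p.2.2.1, ?_⟩) ⟨?_, ?_⟩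
  · show D.hom w ∈ Subgroup.zpowers (D.hom p.1.1 * D.hom p.1.2)
    rw [← map_mul, ← MonoidHom.map_zpowers]
    exact Subgroup.mem_map_of_mem _ (mem_zpowers_iff_inPow.2 p.2.2.2)
  · intro p p' e
    exact Subtype.ext (Prod.ext (D.inj (congrArg (fun q => q.1.1) e)) (D.inj (congrArg (fun q => q.1.2) e)))
  · rintro ⟨⟨g1, g2⟩, h1, h2, h3⟩
    dsimp only at h1 h2 h3
    have o1 := hinv D.orderOf_z h1
    have o2 := hinv hao h2
    obtain ⟨c1, c2⟩ := commute_of_mem_zpowers (CfsgLib.Invol.mul_self_eq_one o1)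
      (CfsgLib.Invol.mul_self_eq_one o2) (by rw [← map_mul, hw, map_one]) h3
    obtain ⟨u, rfl⟩ := D.exists_of_comm (hsub g1 c1)
    obtain ⟨v, rfl⟩ := D.exists_of_comm (hsub g2 c2)
    refine ⟨⟨(u, v), (hK u (D.lab_ne_zero o1)).1 h1, (hA v (D.lab_ne_zero o2)).1 h2, ?_⟩, rfl⟩
    rw [← map_mul, ← MonoidHom.map_zpowers] at h3
    exact mem_zpowers_iff_inPow.1 ((Subgroup.mem_map_iff_mem D.inj).1 h3)

theorem CentData.card_cent_z : Nat.card (Subgroup.centralizer ({D.z} : Set G)) = 192 := by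
  rw [show Subgroup.centralizer ({D.z} : Set G) = D.hom.range from D.range_eq.symm,
    ← Nat.card_congr (MonoidHom.ofInjective D.inj).toEquiv, CM.card]

theorem CentData.card_cent_a_small (hT : ∀ g : G, g * D.a = D.a * g → g * D.z = D.z * g) :
    Nat.card (Subgroup.centralizer ({D.a} : Set G)) = 16 := by
  rw [← card_mT, ← D.card_map]
  refine congrArg (fun K : Subgroup G => Nat.card K) (le_antisymm (fun g hg => ?_) ?_)
  · obtain ⟨x, rfl⟩ := D.exists_of_comm (hT g (D.mem_cent_a.1 hg))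
    exact ⟨x, mem_mT.2 (D.inj (by rw [map_mul, map_mul]; exact D.mem_cent_a.1 hg)), rfl⟩
  · rintro _ ⟨x, hx, rfl⟩
    exact D.hom_mem_cent_a (mem_mT.1 hx)

section ShapeLemmas

variable {D} {n : ℕ} {z0 q0 r0 : Perm (Fin n)} (S : Shape D n z0 q0 r0)

theorem Shape.a_sq : D.a * D.a = 1 := by rw [CentData.a, ← map_mul, rel_aqrz.1, map_one]

include S in
theorem Shape.card_cent_a : Nat.card (Subgroup.centralizer ({D.a} : Set G)) = 2 * Nat.factorial n := by
  classical
  have h : 2 * Nat.factorial n = Nat.card (Perm (Fin n) × Bool) := by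
    rw [Nat.card_prod, Nat.card_perm, Nat.card_fin, Nat.card_eq_fintype_card, Fintype.card_bool, mul_comm]
  rw [h]
  symm
  refine Nat.card_eq_of_bijective (fun p => (⟨S.hom p.1 * (bif p.2 then D.a else 1), D.mem_cent_a.2 ?_⟩ :
    ↥(Subgroup.centralizer ({D.a} : Set G)))) ⟨?_, ?_⟩
  · cases p.2
    · simp [S.comm]
    · simp only [cond_true]
      rw [S.comm, mul_assoc, S.comm]
  · rintro ⟨s, b⟩ ⟨t, c⟩ e
    have e' : S.hom s * (bif b then D.a else 1) = S.hom t * (bif c then D.a else 1) := congrArg Subtype.val e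
    cases b <;> cases c <;> simp only [cond_true, cond_false, mul_one] at e'
    · exact Prod.ext (S.inj e') rfl
    · exact absurd (show S.hom (t⁻¹ * s) = D.a by rw [map_mul, e', map_inv]; group) (S.ne_a _)
    · exact absurd (show S.hom (s⁻¹ * t) = D.a by rw [map_mul, ← e', map_inv]; group) (S.ne_a _)
    · exact Prod.ext (S.inj (mul_right_cancel e')) rfl
  · rintro ⟨g, hg⟩
    obtain ⟨s, rfl | rfl⟩ := S.cover g (D.mem_cent_a.1 hg)
    · exact ⟨(s, false), Subtype.ext (by simp)⟩
    · exact ⟨(s, true), rfl⟩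

theorem Shape.isConj_hom {s t : Perm (Fin n)} (h : ∃ g, g * s * g⁻¹ = t) : IsConj (S.hom s) (S.hom t) := by
  obtain ⟨g, hg⟩ := h
  exact isConj_iff.2 ⟨S.hom g, by rw [← map_inv, ← map_mul, ← map_mul, hg]⟩

theorem Shape.isConj_hom_mul {s t : Perm (Fin n)} (h : ∃ g, g * s * g⁻¹ = t) :
    IsConj (S.hom s * D.a) (S.hom t * D.a) := by
  obtain ⟨g, hg⟩ := h
  refine isConj_iff.2 ⟨S.hom g, ?_⟩
  rw [← hg, map_mul, map_mul, map_inv]
  calc S.hom g * (S.hom s * D.a) * (S.hom g)⁻¹
      = S.hom g * S.hom s * (D.a * (S.hom g)⁻¹) := by group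
    _ = S.hom g * S.hom s * ((S.hom g)⁻¹ * D.a) := by
        rw [((Commute.inv_left (show Commute (S.hom g) D.a from S.comm g)).eq).symm]
    _ = S.hom g * S.hom s * (S.hom g)⁻¹ * D.a := by group

/-- An involution commuting with `a` of the first class is one of the symmetric group's. -/
theorem Shape.of_first (hcl : InvClasses n z0 r0) {u : G} (hu : u * D.a = D.a * u) (hz : IsConj D.z u) :
    ∃ s, u = S.hom s ∧ ∃ h, h * z0 * h⁻¹ = s := by
  have hu2 : u * u = 1 := CfsgLib.Invol.mul_self_eq_one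
    (CfsgLib.Invol.orderOf_eq_two_of_isConj D.orderOf_z hz)
  have h3 : ∀ x : CM, lab x = 3 → ∀ g : G, IsConj (D.hom x) g → ¬ IsConj D.z g := fun x hx g h h' =>
    D.not_three_z hx (h'.trans h.symm)
  obtain ⟨s, rfl | rfl⟩ := S.cover u hu
  · have hs : s * s = 1 := S.inj (by rw [map_mul, hu2, map_one])
    rcases hcl.1 s hs with rfl | h | h
    · exfalso
      rw [map_one] at hz
      exact CfsgLib.Invol.ne_one_of_invol (CfsgLib.Invol.orderOf_eq_two_of_isConj D.orderOf_z hz) rfl
    · exact ⟨s, rfl, h⟩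
    · exact absurd hz (h3 mr lab_facts.2.2.2.2.2.1 _ (S.map_r ▸ S.isConj_hom h))
  · exfalso
    have hs : s * s = 1 := S.inj (by
      rw [map_mul, map_one, ← hu2]
      calc S.hom s * S.hom s = S.hom s * S.hom s * (D.a * D.a) := by rw [Shape.a_sq, mul_one]
        _ = S.hom s * (S.hom s * D.a) * D.a := by group
        _ = S.hom s * (D.a * S.hom s) * D.a := by rw [S.comm]
        _ = S.hom s * D.a * (S.hom s * D.a) := by group)
    rcases hcl.1 s hs with rfl | h | h
    · rw [map_one, one_mul] at hz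
      exact h3 ma lab_facts.2.2.2.2.1 _ (IsConj.refl _) hz
    · refine h3 (mz * ma) lab_facts.2.2.2.2.2.2.2.1 _ ?_ hz
      have := S.isConj_hom_mul h
      rwa [S.map_z, show D.z * D.a = D.hom (mz * ma) from (map_mul _ _ _).symm] at this
    · refine h3 (ma * mr) lab_facts.2.2.2.2.2.2.1 _ ?_ hz
      have := S.isConj_hom_mul h
      rwa [S.map_r, show D.hom mr * D.a = D.hom (ma * mr) by
        rw [← cent_a_comm.2.2.2, map_mul]; rfl] at this

include S in
/-- The pairs that lie over `a`. -/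
theorem Shape.card_pairs (hcl : InvClasses n z0 r0)
    (hall : ∀ t : G, orderOf t = 2 → IsConj D.z t ∨ IsConj D.a t) :
    Nat.card {p : G × G // IsConj D.z p.1 ∧ IsConj D.a p.2 ∧ D.a ∈ Subgroup.zpowers (p.1 * p.2)} =
      shapeCount n z0 := by
  classical
  have hdec : shapeCount n z0 = Nat.card {p : Perm (Fin n) × Perm (Fin n) //
      (∃ h, h * z0 * h⁻¹ = p.1) ∧ p.2 * p.2 = 1 ∧ (p.1 * p.2) ^ 15 = 1} := by
    rw [Nat.card_eq_fintype_card, Fintype.card_subtype, shapeCount, Finset.card_eq_sum_ones,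
      Finset.sum_filter, Fintype.sum_prod_type]
    refine Finset.sum_congr rfl fun u _ => ?_
    by_cases hu : ∃ h, h * z0 * h⁻¹ = u <;> simp [hu, Finset.sum_filter]
  have hcommA : ∀ s, Commute (S.hom s) D.a := S.comm
  have hpow : ∀ (s : Perm (Fin n)) (k : ℕ), (S.hom s * D.a) ^ k = S.hom (s ^ k) * D.a ^ k := fun s k => by
    rw [(hcommA s).mul_pow, map_pow]
  rw [hdec]
  symm
  refine Nat.card_eq_of_bijective (fun p => ⟨(S.hom p.1.1, S.hom p.1.2 * D.a),
    S.map_z ▸ S.isConj_hom p.2.1, ?_, ?_⟩) ⟨?_, ?_⟩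
  · show IsConj D.a (S.hom p.1.2 * D.a)
    have hv2 : (S.hom p.1.2 * D.a) ^ 2 = 1 := by rw [hpow, pow_two, p.2.2.1, map_one, pow_two, Shape.a_sq, one_mul]
    have hv1 : S.hom p.1.2 * D.a ≠ 1 := fun h => S.ne_a p.1.2
      ((mul_eq_one_iff_eq_inv.1 h).trans (inv_eq_of_mul_eq_one_right Shape.a_sq))
    refine (hall _ (orderOf_eq_prime hv2 hv1)).resolve_left fun h => ?_
    obtain ⟨s, hs, -⟩ := S.of_first hcl (by rw [← mul_assoc D.a, ← S.comm]) h
    exact S.ne_a (p.1.2⁻¹ * s) (by rw [map_mul, ← hs, map_inv]; group)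
  · show D.a ∈ Subgroup.zpowers (S.hom p.1.1 * (S.hom p.1.2 * D.a))
    rw [← mul_assoc, ← map_mul]
    refine Subgroup.mem_zpowers_iff.2 ⟨(15 : ℕ), ?_⟩
    rw [zpow_natCast, hpow, p.2.2.2, map_one, one_mul, show (15 : ℕ) = 2 * 7 + 1 by norm_num, pow_succ,
      pow_mul, pow_two, Shape.a_sq, one_pow, one_mul]
  · intro p p' e
    refine Subtype.ext (Prod.ext (S.inj (congrArg (fun q => q.1.1) e)) (S.inj (mul_right_cancel (b := D.a) ?_)))
    exact congrArg (fun q => q.1.2) e
  · rintro ⟨⟨g1, g2⟩, h1, h2, h3⟩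
    dsimp only at h1 h2 h3
    have hao : orderOf D.a = 2 := D.orderOf_invol (by rw [lab_facts.2.2.2.2.1]; norm_num)
    have o2 := CfsgLib.Invol.orderOf_eq_two_of_isConj hao h2
    obtain ⟨c1, c2⟩ := commute_of_mem_zpowers
      (CfsgLib.Invol.mul_self_eq_one (CfsgLib.Invol.orderOf_eq_two_of_isConj D.orderOf_z h1))
      (CfsgLib.Invol.mul_self_eq_one o2) Shape.a_sq h3
    obtain ⟨s, rfl, hs⟩ := S.of_first hcl c1 h1
    obtain ⟨t, rfl | rfl⟩ := S.cover g2 c2
    · exfalso
      rw [← map_mul, ← MonoidHom.map_zpowers] at h3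
      obtain ⟨x, -, hx⟩ := h3
      exact S.ne_a x hx
    · have ht : t * t = 1 := by
        have h := CfsgLib.Invol.mul_self_eq_one o2
        rw [← pow_two, hpow, pow_two, pow_two, Shape.a_sq, mul_one, ← map_one S.hom] at h
        exact S.inj h
      refine ⟨⟨(s, t), hs, ht, ?_⟩, rfl⟩
      rw [← mul_assoc, ← map_mul] at h3
      obtain ⟨k, -, hk⟩ := Finset.mem_image.1 (mem_zpowers_iff_mem_range_orderOf.1 h3)
      rw [hpow] at hk
      rcases Nat.even_or_odd k with ⟨j, hj⟩ | hodd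
      · rw [hj, ← two_mul, pow_mul D.a, pow_two, Shape.a_sq, one_pow, mul_one] at hk
        exact absurd hk (S.ne_a _)
      · obtain ⟨j, hj⟩ := hodd
        rw [hj, pow_succ D.a, pow_mul, pow_two, Shape.a_sq, one_pow, one_mul, mul_eq_right] at hk
        have hst : (s * t) ^ (2 * j + 1) = 1 := S.inj (by rw [hk, map_one])
        have d1 := orderOf_dvd_of_pow_eq_one hst
        have d2 : orderOf (s * t) ∣ 4 * 15 := orderOf_dvd_of_pow_eq_one (hcl.2.1 _)
        refine orderOf_dvd_iff_pow_eq_one.1 ((Nat.Coprime.dvd_mul_left ?_).1 d2)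
        have h4 : Nat.Coprime (2 * j + 1) (2 ^ 2) :=
          Nat.Coprime.pow_right 2 (Nat.coprime_two_right.2 ⟨j, rfl⟩)
        exact h4.coprime_dvd_left d1

end ShapeLemmas

/-- The fusion of the first kind. -/
structure CentData.Fused (D : CentData G) : Prop where
  zq : IsConj D.z (D.hom mq)
  zb : IsConj D.z (D.hom (crep 4))

theorem CentData.Fused.isConj_iff_lab {D : CentData G} (h : D.Fused) {x : CM} (hx : lab x ≠ 0) :
    IsConj D.z (D.hom x) ↔ lab x ∈ [1, 2, 4] := by
  have h4 := lab_le x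
  constructor
  · intro hc
    rcases (show lab x = 1 ∨ lab x = 2 ∨ lab x = 3 ∨ lab x = 4 by omega) with e | e | e | e
    · simp [e]
    · simp [e]
    · exact absurd hc (D.not_three_z e)
    · simp [e]
  · intro hm
    simp only [List.mem_cons, List.not_mem_nil, or_false] at hm
    rcases hm with e | e | e
    · rw [(lab_one_iff x).1 e]; exact IsConj.refl _
    · exact h.zq.trans (D.isConj_of_lab (by rw [lab_facts.2.1]; norm_num) (lab_facts.2.1.trans e.symm))
    · exact h.zb.trans (D.isConj_of_lab (by rw [lab_facts.2.2.2.2.2.2.2.2.2.2]; norm_num)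
        (lab_facts.2.2.2.2.2.2.2.2.2.2.trans e.symm))

theorem CentData.isConj_a_three {x : CM} (hx : lab x = 3) : IsConj D.a (D.hom x) :=
  D.isConj_of_lab (by rw [lab_facts.2.2.2.2.1]; norm_num) (lab_facts.2.2.2.2.1.trans hx.symm)

theorem CentData.not_isConj_z_a : ¬ IsConj D.z D.a := D.not_three_z lab_facts.2.2.2.2.1

theorem CentData.orderOf_a : orderOf D.a = 2 := D.orderOf_invol (by rw [lab_facts.2.2.2.2.1]; norm_num)

theorem CentData.Fused.isConj_a_iff {D : CentData G} (h : D.Fused) {x : CM} (hx : lab x ≠ 0) :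
    IsConj D.a (D.hom x) ↔ lab x ∈ [3] := by
  rw [List.mem_singleton]
  refine ⟨fun hc => ?_, D.isConj_a_three⟩
  by_contra hn
  have hm : lab x ∈ [1, 2, 4] := by
    have := lab_le x
    simp only [List.mem_cons, List.not_mem_nil, or_false]
    omega
  exact D.not_isConj_z_a (((h.isConj_iff_lab hx).2 hm).trans hc.symm)

theorem CentData.Fused.hall {D : CentData G} (h : D.Fused) (t : G) (ht : orderOf t = 2) :
    IsConj D.z t ∨ IsConj D.a t := by
  obtain ⟨g, x, -, hx⟩ := D.exists_conj_mem ht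
  have hx0 : lab x ≠ 0 := D.lab_ne_zero (by rw [← hx, CfsgLib.Invol.orderOf_conj, ht])
  have hc : IsConj t (D.hom x) := isConj_iff.2 ⟨g, hx⟩
  by_cases h3 : lab x = 3
  · exact Or.inr ((D.isConj_a_three h3).trans hc.symm)
  · refine Or.inl (((h.isConj_iff_lab hx0).2 ?_).trans hc.symm)
    have := lab_le x
    simp only [List.mem_cons, List.not_mem_nil, or_false]
    omega

theorem CentData.Fused.card_small {D : CentData G} (h : D.Fused)
    (hT : ∀ g : G, g * D.a = D.a * g → g * D.z = D.z * g) : Nat.card G = 4416 := by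
  have hf := Cfsg.Agent.S0213.result D.z D.a D.orderOf_z D.orderOf_a D.not_isConj_z_a h.hall
  have n1 : Nat.card {p : G × G // IsConj D.z p.1 ∧ IsConj D.a p.2 ∧ D.z ∈ Subgroup.zpowers (p.1 * p.2)} = 240 :=
    (D.card_pairs (w := mz) rel_aqrz.2.2.2.1 (fun g hg => hg) [1, 2, 4] [3]
      (fun _ hx => h.isConj_iff_lab hx) (fun _ hx => h.isConj_a_iff hx) (by decide) (by decide)).trans
      pairCount_values.1
  have n2 : Nat.card {p : G × G // IsConj D.z p.1 ∧ IsConj D.a p.2 ∧ D.a ∈ Subgroup.zpowers (p.1 * p.2)} = 3 :=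
    (D.card_pairs (w := ma) rel_aqrz.1 hT [1, 2, 4] [3]
      (fun _ hx => h.isConj_iff_lab hx) (fun _ hx => h.isConj_a_iff hx) (by decide) (by decide)).trans
      pairCount_values.2.1
  rw [n1, n2, D.card_cent_z, D.card_cent_a_small hT] at hf
  omega

theorem CentData.Fused.card_shape {D : CentData G} (h : D.Fused) {n : ℕ} {z0 q0 r0 : Perm (Fin n)}
    (S : Shape D n z0 q0 r0) (hcl : InvClasses n z0 r0) :
    Nat.card G = 2 * Nat.factorial n * 240 + 192 * shapeCount n z0 := by
  have hf := Cfsg.Agent.S0213.result D.z D.a D.orderOf_z D.orderOf_a D.not_isConj_z_a h.hall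
  have n1 : Nat.card {p : G × G // IsConj D.z p.1 ∧ IsConj D.a p.2 ∧ D.z ∈ Subgroup.zpowers (p.1 * p.2)} = 240 :=
    (D.card_pairs (w := mz) rel_aqrz.2.2.2.1 (fun g hg => hg) [1, 2, 4] [3]
      (fun _ hx => h.isConj_iff_lab hx) (fun _ hx => h.isConj_a_iff hx) (by decide) (by decide)).trans
      pairCount_values.1
  rw [n1, S.card_pairs hcl h.hall, D.card_cent_z, S.card_cent_a] at hf
  exact hf

/-- The order in the shape of degree five. -/
theorem CentData.Fused.card_five {D : CentData G} (h : D.Fused) (S : Shape D 5 z5 q5 r5) :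
    Nat.card G = 95040 := by
  rw [h.card_shape S invClasses_five, shapeCount_five]
  rfl

/-- The lower bound. -/
theorem CentData.Fused.lower {D : CentData G} (h : D.Fused) : 192 * 313 ≤ Nat.card G := by
  classical
  have key : ∀ v : {v : CM // lab v = 4}, ∃ (g : G) (v' : CM),
      g * D.hom v.1 * g⁻¹ = D.z ∧ D.hom v' = g * D.z * g⁻¹ ∧ lab v' = 4 := by
    intro v
    obtain ⟨g, hg⟩ := isConj_iff.1 ((h.isConj_iff_lab (x := v.1) (by rw [v.2]; norm_num)).2
      (by simp [v.2])).symm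
    have e2 : g * D.z * g⁻¹ * (g * D.hom v.1 * g⁻¹) = g * D.hom v.1 * g⁻¹ * (g * D.z * g⁻¹) := by
      calc g * D.z * g⁻¹ * (g * D.hom v.1 * g⁻¹) = g * (D.z * D.hom v.1) * g⁻¹ := by group
        _ = g * (D.hom v.1 * D.z) * g⁻¹ := by rw [D.comm_z]
        _ = g * D.hom v.1 * g⁻¹ * (g * D.z * g⁻¹) := by group
    rw [hg] at e2
    have hc : g * D.z * g⁻¹ * D.z = D.z * (g * D.z * g⁻¹) := e2
    obtain ⟨v', hv'⟩ := D.exists_of_comm hc
    refine ⟨g, v', hg, hv', ?_⟩
    have h0 : lab v' ≠ 0 := D.lab_ne_zero (by rw [hv', CfsgLib.Invol.orderOf_conj, D.orderOf_z])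
    have h1 := D.card_cent_pair h0
    have h2 := D.card_cent_pair (x := v.1) (by rw [v.2]; norm_num)
    have h3 := card_pair_conj g (D.hom v.1) D.z
    rw [hg] at h3
    rw [hv', h3, Nat.card_congr (Equiv.subtypeEquivRight fun _ => and_comm), h2, v.2] at h1
    have := lab_le v'
    interval_cases (lab v') <;> simp_all
  choose gv v' hgv hv' hv4 using key
  let σ := Σ v : {v : CM // lab v = 4},
    {h : CM // lab h ∈ [1, 2, 4] ∧ h ≠ v' v ∧ InPow mz (v' v * h)}
  let F : Option σ → {g : G // IsConj D.z g} := fun o => o.elim ⟨D.z, IsConj.refl _⟩ fun s =>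
    ⟨(gv s.1)⁻¹ * D.hom s.2.1 * gv s.1, ((h.isConj_iff_lab (x := s.2.1) (fun e => by
        have := s.2.2.1; rw [e] at this; simp at this)).2 s.2.2.1).trans
      (isConj_iff.2 ⟨(gv s.1)⁻¹, by group⟩)⟩
  have hmem : ∀ s : σ, D.hom s.1.1 ∈ Subgroup.zpowers (D.z * ((gv s.1)⁻¹ * D.hom s.2.1 * gv s.1)) := by
    intro s
    obtain ⟨k, hk⟩ := Subgroup.mem_zpowers_iff.1 (Subgroup.mem_map_of_mem D.hom
      (mem_zpowers_iff_inPow.2 s.2.2.2.2) |> fun h => MonoidHom.map_zpowers D.hom _ ▸ h)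
    refine Subgroup.mem_zpowers_iff.2 ⟨k, ?_⟩
    rw [map_mul, hv'] at hk
    have e : D.z * ((gv s.1)⁻¹ * D.hom s.2.1 * gv s.1) =
        (gv s.1)⁻¹ * (gv s.1 * D.z * (gv s.1)⁻¹ * D.hom s.2.1) * (gv s.1)⁻¹⁻¹ := by group
    rw [e, conj_zpow, hk]
    show (gv s.1)⁻¹ * D.z * (gv s.1)⁻¹⁻¹ = D.hom s.1.1
    rw [← hgv s.1]; group
  have hne : ∀ s : σ, (gv s.1)⁻¹ * D.hom s.2.1 * gv s.1 ≠ D.z := by
    intro s e
    refine s.2.2.2.1 (D.inj ?_)
    rw [hv', ← e]; group
  have hinj : Function.Injective F := by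
    intro o o' e
    have e' := congrArg Subtype.val e
    rcases o with _ | s <;> rcases o' with _ | s'
    · rfl
    · exact absurd e'.symm (hne s')
    · exact absurd e' (hne s)
    · have h1 := hmem s
      have h2 := hmem s'
      have e2 : (gv s.1)⁻¹ * D.hom s.2.1 * gv s.1 = (gv s'.1)⁻¹ * D.hom s'.2.1 * gv s'.1 := e'
      rw [← e2] at h2
      have o1 : orderOf (D.hom s.1.1) = 2 := D.orderOf_invol (by rw [s.1.2]; norm_num)
      have o2 : orderOf (D.hom s'.1.1) = 2 := D.orderOf_invol (by rw [s'.1.2]; norm_num)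
      have hev : Even (orderOf (D.z * ((gv s.1)⁻¹ * D.hom s.2.1 * gv s.1))) := by
        have := orderOf_dvd_of_mem_zpowers h1
        rw [o1] at this
        exact even_iff_two_dvd.2 this
      have hv : s.1 = s'.1 := Subtype.ext (D.inj ((Cfsg.Agent.S0213.eq_middle o1 h1 hev).trans
        (Cfsg.Agent.S0213.eq_middle o2 h2 hev).symm))
      obtain ⟨v, x⟩ := s
      obtain ⟨w, y⟩ := s'
      obtain rfl : v = w := hv
      rw [Subtype.ext (D.inj (mul_left_cancel (mul_right_cancel e2))) (a1 := x) (a2 := y)]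
  have hle := Nat.card_le_card_of_injective F hinj
  have hσ : Nat.card σ = 24 * 13 := by
    rw [Nat.card_sigma]
    rw [Finset.sum_congr rfl (g := fun _ => 13) fun v _ => by
      rw [Nat.card_eq_fintype_card, Fintype.card_subtype]
      exact thirteen.1 _ (hv4 v)]
    rw [Finset.sum_const, Finset.card_univ, Fintype.card_subtype, thirteen.2]
    rfl
  rw [Finite.card_option, hσ, CfsgLib.Invol.card_isConj_eq_index] at hle
  have := Subgroup.card_mul_index (Subgroup.centralizer ({D.z} : Set G))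
  rw [D.card_cent_z] at this
  rw [← this]
  exact Nat.mul_le_mul_left 192 (by omega)

section Simple

variable [IsSimpleGroup G] (hG : ¬ IsMulCommutative G)

include hG in
/-- The fusion is of the first kind. -/
theorem CentData.fused : D.Fused := by
  rcases D.four_cases hG with hb | hb
  · exact ⟨D.isConj_z_q hG, hb⟩
  exfalso
  have hb4 : lab (crep 4) = 4 := lab_facts.2.2.2.2.2.2.2.2.2.2
  have hzb : ∀ x : CM, lab x = 4 → IsConj D.a (D.hom x) := fun x hx =>
    hb.trans (D.isConj_of_lab (by rw [hb4]; norm_num) (hb4.trans hx.symm))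
  have hK : ∀ x : CM, lab x ≠ 0 → (IsConj D.z (D.hom x) ↔ lab x ∈ [1, 2]) := by
    intro x hx
    have h4 := lab_le x
    constructor
    · intro hc
      rcases (show lab x = 1 ∨ lab x = 2 ∨ lab x = 3 ∨ lab x = 4 by omega) with e | e | e | e
      · simp [e]
      · simp [e]
      · exact absurd hc (D.not_three_z e)
      · exact absurd (hc.trans (hzb x e).symm) D.not_isConj_z_a
    · intro hm
      simp only [List.mem_cons, List.not_mem_nil, or_false] at hm
      rcases hm with e | e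
      · rw [(lab_one_iff x).1 e]; exact IsConj.refl _
      · exact D.isConj_z_two hG e
  have hA : ∀ x : CM, lab x ≠ 0 → (IsConj D.a (D.hom x) ↔ lab x ∈ [3, 4]) := by
    intro x hx
    have h4 := lab_le x
    constructor
    · intro hc
      by_contra hn
      have hm : lab x ∈ [1, 2] := by
        simp only [List.mem_cons, List.not_mem_nil, or_false] at hn ⊢
        omega
      exact D.not_isConj_z_a (((hK x hx).2 hm).trans hc.symm)
    · intro hm
      simp only [List.mem_cons, List.not_mem_nil, or_false] at hm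
      rcases hm with e | e
      · exact D.isConj_a_three e
      · exact hzb x e
  have hall : ∀ t : G, orderOf t = 2 → IsConj D.z t ∨ IsConj D.a t := by
    intro t ht
    obtain ⟨g, x, -, hx⟩ := D.exists_conj_mem ht
    have hx0 : lab x ≠ 0 := D.lab_ne_zero (by rw [← hx, CfsgLib.Invol.orderOf_conj, ht])
    have hc : IsConj t (D.hom x) := isConj_iff.2 ⟨g, hx⟩
    by_cases hm : lab x ∈ [3, 4]
    · exact Or.inr (((hA x hx0).2 hm).trans hc.symm)
    · refine Or.inl (((hK x hx0).2 ?_).trans hc.symm)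
      have := lab_le x
      simp only [List.mem_cons, List.not_mem_nil, or_false] at hm ⊢
      omega
  have noShape : ∀ {n : ℕ} {z0 q0 r0 : Perm (Fin n)}, InvClasses n z0 r0 → Shape D n z0 q0 r0 → False := by
    intro n z0 q0 r0 hcl S
    obtain ⟨g, hg⟩ := isConj_iff.1 hb.symm
    have hgz : g * D.z * g⁻¹ * D.a = D.a * (g * D.z * g⁻¹) := by
      change g * D.hom (crep 4) * g⁻¹ = D.a at hg
      rw [← hg]
      have e := D.comm_z (crep 4)
      calc g * D.z * g⁻¹ * (g * D.hom (crep 4) * g⁻¹) = g * (D.z * D.hom (crep 4)) * g⁻¹ := by group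
        _ = g * (D.hom (crep 4) * D.z) * g⁻¹ := by rw [e]
        _ = g * D.hom (crep 4) * g⁻¹ * (g * D.z * g⁻¹) := by group
    obtain ⟨s, hs, h, hh⟩ := S.of_first hcl hgz (isConj_iff.2 ⟨g, rfl⟩)
    have e1 : S.hom h * D.z * (S.hom h)⁻¹ = g * D.z * g⁻¹ := by
      rw [hs, ← hh, map_mul, map_mul, map_inv, S.map_z]
    have e2 : S.hom h * D.a * (S.hom h)⁻¹ = D.a := mul_inv_eq_iff_eq_mul.2 (S.comm h)
    have c1 := card_pair_conj g (D.hom (crep 4)) D.z
    rw [show g * D.hom (crep 4) * g⁻¹ = D.a from hg] at c1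
    have c2 := card_pair_conj (S.hom h) D.a D.z
    rw [e2, e1, c1] at c2
    have c3 := D.card_cent_pair (x := crep 4) (by rw [hb4]; norm_num)
    have c4 := D.card_cent_pair (x := ma) (by rw [lab_facts.2.2.2.2.1]; norm_num)
    rw [Nat.card_congr (Equiv.subtypeEquivRight fun _ => and_comm), c3, hb4,
      Nat.card_congr (Equiv.subtypeEquivRight fun _ => and_comm)] at c2
    rw [lab_facts.2.2.2.2.1] at c4
    have c5 : Nat.card {g : G // g * D.z = D.z * g ∧ g * D.a = D.a * g} = 16 := c4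
    rw [c5] at c2
    simp at c2
  rcases D.cent_a_cases hG with hT | ⟨⟨S⟩⟩ | ⟨⟨S⟩⟩
  · have hf := Cfsg.Agent.S0213.result D.z D.a D.orderOf_z D.orderOf_a D.not_isConj_z_a hall
    have n1 : Nat.card {p : G × G // IsConj D.z p.1 ∧ IsConj D.a p.2 ∧ D.z ∈ Subgroup.zpowers (p.1 * p.2)} = 48 :=
      (D.card_pairs (w := mz) rel_aqrz.2.2.2.1 (fun g hg => hg) [1, 2] [3, 4] hK hA (by decide) (by decide)).trans
        pairCount_values.2.2.1
    have n2 : Nat.card {p : G × G // IsConj D.z p.1 ∧ IsConj D.a p.2 ∧ D.a ∈ Subgroup.zpowers (p.1 * p.2)} = 3 :=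
      (D.card_pairs (w := ma) rel_aqrz.1 hT [1, 2] [3, 4] hK hA (by decide) (by decide)).trans
        pairCount_values.2.2.2
    rw [n1, n2, D.card_cent_z, D.card_cent_a_small hT] at hf
    have hidx0 : (Subgroup.centralizer ({D.z} : Set G)).index = 7 := by
      have := (Subgroup.centralizer ({D.z} : Set G)).card_mul_index
      rw [D.card_cent_z, hf] at this
      omega
    set C := Subgroup.centralizer ({D.z} : Set G) with hC
    have hidx : C.index = 7 := hidx0
    have hker : (MulAction.toPermHom G (G ⧸ C)).ker = ⊥ := by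
      rcases (MulAction.toPermHom G (G ⧸ C)).normal_ker.eq_bot_or_eq_top with e | e
      · exact e
      · exfalso
        have hle : (MulAction.toPermHom G (G ⧸ C)).ker ≤ C := by
          rw [← Subgroup.normalCore_eq_ker]; exact Subgroup.normalCore_le C
        rw [e, top_le_iff] at hle
        rw [hle, Subgroup.index_top] at hidx
        norm_num at hidx
    have hd := Subgroup.card_dvd_of_injective (MulAction.toPermHom G (G ⧸ C))
      ((MonoidHom.ker_eq_bot_iff _).1 hker)
    rw [Nat.card_perm, show Nat.card (G ⧸ C) = 7 from hidx, hf] at hd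
    norm_num [Nat.factorial] at hd
  · exact noShape invClasses_four S
  · exact noShape invClasses_five S

include hG in
/-- The centraliser of `a` is twice `S₅`. -/
theorem CentData.shape_five : Nonempty (Shape D 5 z5 q5 r5) := by
  have h := D.fused hG
  have hlow := h.lower
  rcases D.cent_a_cases hG with hT | ⟨⟨S⟩⟩ | hS
  · rw [h.card_small hT] at hlow; omega
  · rw [h.card_shape S invClasses_four, shapeCount_four] at hlow
    norm_num [Nat.factorial] at hlow
  · exact hS

include hG D in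
theorem CentData.card_eq : Nat.card G = 95040 :=
  let ⟨S⟩ := D.shape_five hG
  (D.fused hG).card_five S

end Simple

end CfsgLib.M12Recog
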